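import Mathlib.RingTheory.Filtration
import Mathlib.RingTheory.Ideal.Colon
import Mathlib.RingTheory.Noetherian.Nilpotent
import Mathlib.RingTheory.Ideal.Operations
import Mathlib.RingTheory.Noetherian.Basic
import Mathlib.RingTheory.MvPolynomial.Basic
import Mathlib.LinearAlgebra.Determinant

/-!
# Elements with small coordinates extend

The algebra behind the extension of norms across a closed subset: polynomial identities give differences
of norms in `J ^ k • 𝒩` for a finite module `𝒩`, and Artin–Rees brings these into the image of `J`.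
-/

namespace Groth.Agent.NormExt

open Pointwise

variable {A : Type*} [CommRing A]

/-- Values of a polynomial at congruent points differ by an element of `I • span (coefficients)`. -/
theorem eval_sub_eval_mem {R : Type*} [CommRing R] [Algebra A R] {σ : Type*} (P : MvPolynomial σ R) {I : Ideal A}
    {v w : σ → A} (h : ∀ i, v i - w i ∈ I) :
    MvPolynomial.eval (fun i => algebraMap A R (v i)) P - MvPolynomial.eval (fun i => algebraMap A R (w i)) P ∈
      I • Submodule.span A ((fun d => P.coeff d) '' (P.support : Set (σ →₀ ℕ))) := by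
  classical
  rw [MvPolynomial.eval_eq, MvPolynomial.eval_eq, ← Finset.sum_sub_distrib]
  refine Submodule.sum_mem _ fun d hd => ?_
  have hm : (∏ i ∈ d.support, v i ^ d i) - ∏ i ∈ d.support, w i ^ d i ∈ I := by
    rw [← Ideal.Quotient.eq]
    simp only [map_prod, map_pow]
    exact Finset.prod_congr rfl fun i _ => by rw [Ideal.Quotient.eq.2 (h i)]
  have h2 := Submodule.smul_mem_smul (N := Submodule.span A ((fun d => P.coeff d) '' (P.support : Set (σ →₀ ℕ))))
    hm (Submodule.subset_span (Set.mem_image_of_mem (fun d => P.coeff d) (Finset.mem_coe.2 hd)))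
  convert h2 using 1
  rw [sub_smul, Algebra.smul_def, Algebra.smul_def, map_prod, map_prod]
  simp only [map_pow]
  ring

variable {M R : Type*} [AddCommGroup M] [Module A M] [AddCommGroup R] [Module A R]

/-- If powers of the elements of `J` push every element of `M` into the image `K`, then preimages of
`J ^ k • 𝒩` lie in `K` for large `k`. -/
theorem exists_pow_smul_le [IsNoetherianRing A] (J : Ideal A) (ι : M →ₗ[A] R) (hι : Function.Injective ι)
    {N : Submodule A R} (hN : N.FG) (K : Submodule A M) (h : ∀ a ∈ J, ∀ g : M, ∃ p : ℕ, a ^ p • g ∈ K) :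
    ∃ k, ∀ x : M, ι x ∈ J ^ k • N → x ∈ K := by
  haveI : Module.Finite A N := Module.Finite.iff_fg.2 hN
  let M' : Submodule A M := N.comap ι
  let ι' : M' →ₗ[A] N := (ι.comp M'.subtype).codRestrict N fun x => x.2
  have hι' : Function.Injective ι' := fun x y e => Subtype.ext (hι (congrArg Subtype.val e))
  haveI : Module.Finite A M' := Module.Finite.of_injective ι' hι'
  obtain ⟨c, hc⟩ := Ideal.exists_pow_inf_eq_pow_smul J (LinearMap.range ι')
  let C : Ideal A := (K.comap M'.subtype).colon Set.univ
  have hJC : J ≤ C.radical := fun a ha => by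
    obtain ⟨G, hG⟩ := (Module.Finite.fg_top : (⊤ : Submodule A M').FG)
    choose p hp using fun g : M' => h a ha g.1
    refine ⟨G.sup p, Submodule.mem_colon.2 fun g hgu => ?_⟩
    clear hgu
    have hg : g ∈ Submodule.span A (G : Set M') := by rw [hG]; trivial
    induction hg using Submodule.span_induction with
    | mem x hx =>
      obtain ⟨j, hj⟩ := Nat.exists_eq_add_of_le (Finset.le_sup (f := p) (Finset.mem_coe.1 hx))
      show a ^ G.sup p • x.1 ∈ K
      rw [hj, pow_add, mul_comm, mul_smul]
      exact K.smul_mem _ (hp x)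
    | zero => rw [smul_zero]; exact zero_mem _
    | add x y _ _ hx hy => rw [smul_add]; exact add_mem hx hy
    | smul b x _ hx => rw [smul_comm]; exact Submodule.smul_mem _ b hx
  obtain ⟨q, hq⟩ := Ideal.exists_pow_le_of_le_radical_of_fg hJC (IsNoetherian.noetherian J)
  refine ⟨c + q, fun x hx => ?_⟩
  have hxN : x ∈ M' := show ι x ∈ N from Submodule.smul_le_right hx
  have hx' : ι' ⟨x, hxN⟩ ∈ J ^ (c + q) • (⊤ : Submodule A N) := by
    have e : (J ^ (c + q) • (⊤ : Submodule A N)).map N.subtype = J ^ (c + q) • N := by
      rw [Submodule.map_smul'', Submodule.map_top, Submodule.range_subtype]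
    rw [← e] at hx
    obtain ⟨y, hy, hyx⟩ := hx
    rwa [show ι' ⟨x, hxN⟩ = y from Subtype.ext hyx.symm]
  have h1 : ι' ⟨x, hxN⟩ ∈ J ^ q • LinearMap.range ι' := by
    have h2 := (hc (c + q) (Nat.le_add_right c q)).le ⟨hx', LinearMap.mem_range_self ι' _⟩
    rw [Nat.add_sub_cancel_left] at h2
    exact Submodule.smul_mono le_rfl inf_le_right h2
  rw [← Submodule.map_top, ← Submodule.map_smul''] at h1
  obtain ⟨y, hy, hyx⟩ := h1
  have hle : J ^ q • (⊤ : Submodule A M') ≤ K.comap M'.subtype := Submodule.smul_le.2 fun r hr m hm =>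
    Submodule.mem_colon.1 (hq hr) m trivial
  have := hle hy
  rw [hι' hyx] at this
  exact this

end Groth.Agent.NormExt
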