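import Groth.Agent.NormExt.Transfer
import Groth.Agent.AmpleX.FiniteSet
import Groth.Agent.DescLib.SepSurj
import Groth.Agent.ModPairLib.Basic
import Groth.Agent.S0052
import Groth.Agent.S9710
import Groth.Agent.H23.RedSub

/-!
# Ampleness descends along finite surjective morphisms which are free or normal outside a proper closed subset
-/

universe u

open CategoryTheory CategoryTheory.Limits AlgebraicGeometry TopologicalSpace
open Groth.Agent.H23.PicMul

attribute [local instance] HasDerivedCategory.standard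

set_option backward.isDefEq.respectTransparency false
set_option backward.isDefEq.respectTransparency.types false

noncomputable section

namespace Groth.Agent.NormExt

open Groth.Agent Groth.Agent.NormX Groth.Agent.AmpleX

variable {X X' S : Scheme.{u}}

theorem vanishingIdeal_le_zI {Z : Closeds X} (W : X.affineOpens) :
    (Scheme.IdealSheafData.vanishingIdeal Z).ideal W ≤ zI (Z : Set X) W.1 := fun a ha z hz hza => by
  have hzW : z ∈ W.1 := X.basicOpen_le a hza
  have h1 : z ∈ (Scheme.IdealSheafData.vanishingIdeal Z).support :=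
    Scheme.IdealSheafData.le_support_iff_le_vanishingIdeal.2 le_rfl hz
  rw [Scheme.IdealSheafData.mem_support_iff_of_mem hzW] at h1
  exact (Scheme.mem_zeroLocus_iff _ _ _).1 h1 a ha hza

/-- A function vanishing over `Z` is in the radical of the extended ideal. -/
theorem exists_pow_mem_map (g : X' ⟶ X) [IsFinite g] {Z : Set X} (hZ : IsClosed Z) {W : X.Opens}
    (hW : IsAffineOpen W) {c : Γ(X', g ⁻¹ᵁ W)} (hc : c ∈ zI (g ⁻¹' Z) (g ⁻¹ᵁ W)) :
    ∃ p : ℕ, c ^ p ∈ (zI Z W).map (g.app W).hom := by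
  suffices c ∈ ((zI Z W).map (g.app W).hom).radical from this
  rw [Ideal.radical_eq_sInf, Submodule.mem_sInf]
  rintro q ⟨hle, hq⟩
  have hQ := hW.preimage g
  let x : X' := hQ.fromSpec ⟨q, hq⟩
  have hxQ : x ∈ g ⁻¹ᵁ W := hQ.opensRange_fromSpec.le ⟨_, rfl⟩
  have hprime : hQ.primeIdealOf ⟨x, hxQ⟩ = ⟨q, hq⟩ :=
    hQ.fromSpec.isOpenEmbedding.injective (hQ.fromSpec_primeIdealOf ⟨x, hxQ⟩)
  have hmem : ∀ a : Γ(X', g ⁻¹ᵁ W), a ∈ q ↔ x ∉ X'.basicOpen a := fun a => by
    rw [QCoh.mem_basicOpen_iff_notMem hQ hxQ a, hprime, not_not]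
  refine (hmem c).2 (hc x ?_)
  by_contra hxZ
  let Zc : X.Opens := ⟨Zᶜ, hZ.isOpen_compl⟩
  obtain ⟨a, ha, hxa⟩ := hW.exists_basicOpen_le (V := Zc) ⟨g x, hxZ⟩ hxQ
  refine (hmem _).1 (hle (Ideal.mem_map_of_mem _ (fun z hz hza => ha hza hz : a ∈ zI Z W))) ?_
  show x ∈ X'.basicOpen (g.app W a)
  rw [← Scheme.preimage_basicOpen]
  exact hxa

theorem app_congr_zero {A B C : Scheme.{u}} {w : A ⟶ B} {g : B ⟶ X} {gz : A ⟶ C} {ι : C ⟶ X}
    (h : w ≫ g = gz ≫ ι) {V : X.Opens} {x : Γ(X, V)} (hx : ι.app V x = 0) : w.app _ (g.app V x) = 0 := by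
  have h1 := ConcreteCategory.congr_hom (Scheme.Hom.congr_app h V) x
  have h2 : (w ≫ g).app V x = w.app _ (g.app V x) := rfl
  rw [← h2, h1]
  show A.presheaf.map _ (gz.app _ (ι.app V x)) = 0
  rw [hx, map_zero, map_zero]

/-- Reduced schemes of finite type over an affine Noetherian scheme. -/
theorem isAmple_core [IsAffine S] [IsNoetherian S] (f : X ⟶ S) [LocallyOfFiniteType f] [QuasiCompact f]
    [IsReduced X] (g : X' ⟶ X) [IsFinite g] [Surjective g] {L : X.Modules} (hL : PicF.IsInvertible L)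
    (Z : Closeds X) [IsProper ((Scheme.IdealSheafData.vanishingIdeal Z).subschemeι ≫ f)]
    (hpt : ∀ x : X, x ∉ (Z : Set X) → GoodPt g x) (h : CohB1.IsAmple ((Scheme.Modules.pullback g).obj L)) :
    CohB1.IsAmple L := by
  classical
  haveI : IsLocallyNoetherian X := LocallyOfFiniteType.isLocallyNoetherian f
  haveI : CompactSpace X := QuasiCompact.compactSpace_of_compactSpace f
  haveI : IsNoetherian X := { __ := ‹IsLocallyNoetherian X›, __ := ‹CompactSpace X› }
  haveI : X'.IsSeparated := isSeparated_of_isAmple h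
  haveI : IsSeparated (g ≫ f) := by
    have e : terminal.from X' = (g ≫ f) ≫ terminal.from S := Subsingleton.elim _ _
    haveI : IsSeparated ((g ≫ f) ≫ terminal.from S) := e ▸ inferInstance
    exact IsSeparated.of_comp (g ≫ f) (terminal.from S)
  haveI : IsSeparated f := DescLib.isSeparated_of_comp_surjective g f
  obtain ⟨s, hs, hsW, hcovs⟩ := NilAmple.exists_affine_frame_cover hL (W := (⊤ : X.Opens))
    (by simpa using isCompact_univ)
  haveI := hs.to_subtype
  let W : s → X.Opens := fun l => l.1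
  have hW : ∀ l : s, IsAffineOpen (W l) := fun l => (hsW l.1 l.2).2.1
  choose e he using fun l : s => (hsW l.1 l.2).2.2
  have hcov : ∀ x, ∃ l : s, x ∈ W l := fun x =>
    let ⟨V, hV, hx⟩ := hcovs x trivial
    ⟨⟨V, hV⟩, hx⟩
  obtain ⟨D, hD, k, hk, hnorm⟩ := exists_norm_section g Z.isClosed hpt W hW hcov
  -- an affine locus from a norm
  suffices hmain : ∀ x : X, ∃ (q : ℕ) (_ : 0 < q) (N : ℕ) (_ : 0 < N)
      (t : Γ(CohB1.tensorPow ((Scheme.Modules.pullback g).obj (CohB1.tensorPow L q)) N, ⊤)) (O : X.Opens),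
      IsAffineOpen O ∧ (∀ z, g z ∉ O → z ∉ locus t) ∧ (∀ z, g z = x → z ∈ locus t) ∧
      ∀ l, ∃ (a : Γ(X, W l)) (c : Γ(X', g ⁻¹ᵁ W l)),
        AModX.res _ (le_top : g ⁻¹ᵁ W l ≤ ⊤) t = c • powElt (InvX.pullElt g (powElt (e l) q)) N ∧
          c - g.app (W l) a ∈ (zI (Z : Set X) (W l) ^ k).map (g.app (W l)).hom by
    refine AmpleX.isAmple_iff.2 ⟨hL, inferInstance, fun x => ?_⟩
    obtain ⟨q, hq, N, hN, t, O, hO, htO, htx, ht⟩ := hmain x
    obtain ⟨b, hb1, hb2⟩ := hnorm _ (fun l => powElt (e l) q) (fun l => isFrame_powElt (he l) q) N t ht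
    obtain ⟨b', hb'⟩ := exists_locus_cl (N := CohB1.tensorPow L (q * (N * D)))
      (show PicF.cl (CohB1.tensorPow (CohB1.tensorPow L q) (N * D)) = _ by
        rw [cl_tensorPow, cl_tensorPow, cl_tensorPow, ← pow_mul]) b
    refine ⟨q * (N * D), Nat.mul_pos hq (Nat.mul_pos hN hD), InvX.ofSect b', ?_⟩
    rw [AmpleX.genLocus_eq_locus, InvX.one_ofSect, hb']
    refine ⟨hb2 x htx, ?_⟩
    have hbO : locus b ≤ O := fun y hy => by
      obtain ⟨z, rfl, hz⟩ := hb1 y hy
      by_contra hc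
      exact htO z hc hz
    have := isAffineOpen_inf_locus (InvX.isInvertible_tensorPow (InvX.isInvertible_tensorPow hL q) (N * D)) hO b le_top
    rwa [inf_eq_right.2 hbO] at this
  intro x
  by_cases hxZ : x ∈ (Z : Set X)
  swap
  · let Zc : X.Opens := ⟨(Z : Set X)ᶜ, Z.isClosed.isOpen_compl⟩
    obtain ⟨O, hO, hxO, hOZ⟩ := exists_isAffineOpen_mem_and_subset (x := x) (U := Zc) hxZ
    obtain ⟨m, σ, hσx, hσO, -⟩ := exists_finite_nhd h (g.finite_preimage_singleton x) (U := g ⁻¹ᵁ O)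
      (fun z (hz : g z = x) => show g z ∈ O from hz ▸ hxO)
    obtain ⟨b, hb⟩ := exists_locus_cl (N := (Scheme.Modules.pullback g).obj (CohB1.tensorPow L (m + 1)))
      (show PicF.cl (CohB1.tensorPow ((Scheme.Modules.pullback g).obj L) (m + 1)) =
          PicF.pullCl g (PicF.cl (CohB1.tensorPow L (m + 1))) by
        rw [cl_tensorPow, cl_tensorPow, pullCl_pow]; rfl) (InvX.one σ)
    have hbl : locus b = CohB1.genLocus _ σ := by rw [hb, AmpleX.genLocus_eq_locus]
    have hM := InvX.isInvertible_tensorPow hL (m + 1)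
    have hfr := fun l => InvX.isFrame_pullElt g (isFrame_powElt (he l) (m + 1))
    choose c hc using fun l => (hfr l).exists_coord le_rfl (AModX.res _ (le_top : g ⁻¹ᵁ W l ≤ ⊤) b)
    simp only [AModX.res_self] at hc
    choose p hp using fun l => exists_pow_mem_map g Z.isClosed (hW l) (c := c l) (fun z hz hzc => by
      rw [← locus_inf b le_top (hfr l) (hc l), hbl] at hzc
      exact hOZ (hσO hzc.1) hz)
    obtain ⟨p₀, hp₀⟩ := Finite.exists_le p
    obtain ⟨N', hN'⟩ : ∃ N', N' = (p₀ + 1) * k := ⟨_, rfl⟩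
    obtain ⟨M, hM'⟩ : ∃ M, N' = M + 1 := Nat.exists_eq_add_of_le' (hN' ▸ Nat.mul_pos p₀.succ_pos hk)
    have hlt : locus (powElt b (M + 1)) = locus b := locus_powElt (PicClLib.isInvertible_pullback g hM) b M
    refine ⟨m + 1, m.succ_pos, M + 1, M.succ_pos, powElt b (M + 1), O, hO, fun z hz hzt => ?_, fun z hz => ?_,
      fun l => ⟨0, c l ^ (M + 1), ?_, ?_⟩⟩
    · rw [hlt, hbl] at hzt
      exact hz (hσO hzt)
    · rw [hlt, hbl]
      exact hσx hz
    · rw [res_powElt, hc, powElt_smul]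
    · rw [map_zero, sub_zero, ← hM', hN', pow_mul, Ideal.map_pow]
      refine Ideal.pow_mem_pow ?_ k
      obtain ⟨r, hr⟩ := Nat.exists_eq_add_of_le ((hp₀ l).trans p₀.le_succ)
      rw [show p₀ + 1 = p l + r from hr, pow_add]
      exact Ideal.mul_mem_right _ _ (hp l)
  obtain ⟨O, hO, hxO, -⟩ := exists_isAffineOpen_mem_and_subset (x := x) (U := (⊤ : X.Opens)) trivial
  -- the thickening and its preimage
  let 𝒥 := Scheme.IdealSheafData.vanishingIdeal Z ^ k
  let ι := 𝒥.subschemeι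
  let w := (𝒥.comap g).subschemeι
  let gz : (𝒥.comap g).subscheme ⟶ 𝒥.subscheme := (𝒥.comapIso g).hom ≫ pullback.snd g ι
  have hsq : w ≫ g = gz ≫ ι := by
    show w ≫ g = ((𝒥.comapIso g).hom ≫ pullback.snd g ι) ≫ ι
    rw [Category.assoc, ← pullback.condition, Scheme.IdealSheafData.comapIso_hom_fst_assoc]
  haveI : IsFinite gz := inferInstance
  haveI : Surjective gz := inferInstance
  have hsupp : ∀ y, y ∈ Set.range ι ↔ y ∈ (Z : Set X) := fun y => by
    rw [Scheme.IdealSheafData.range_subschemeι, Scheme.IdealSheafData.support_pow _ _ (Nat.pos_iff_ne_zero.1 hk),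
      ← Scheme.IdealSheafData.range_subschemeι, H23.RedSub.range_vanishingIdeal]
  haveI : IsProper (ι ≫ f) := by
    haveI := H23.RedSub.isReduced_vanishingIdeal Z
    obtain ⟨i₀, hi₀⟩ := H23.RedSub.exists_lift_closed (Scheme.IdealSheafData.vanishingIdeal Z).subschemeι ι
      (fun y hy => (hsupp y).2 (by rwa [H23.RedSub.range_vanishingIdeal] at hy))
    haveI : Surjective i₀ := ⟨fun z => by
      obtain ⟨z', hz'⟩ : ι z ∈ Set.range (Scheme.IdealSheafData.vanishingIdeal Z).subschemeι := by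
        rw [H23.RedSub.range_vanishingIdeal]; exact (hsupp _).1 ⟨z, rfl⟩
      refine ⟨z', ι.isEmbedding.injective ?_⟩
      rw [← hi₀, Scheme.Hom.comp_apply] at hz'
      exact hz'⟩
    haveI : IsProper (i₀ ≫ ι ≫ f) := by rw [← Category.assoc, hi₀]; infer_instance
    haveI : UniversallyClosed (ι ≫ f) := UniversallyClosed.of_comp_surjective i₀ (ι ≫ f)
    haveI : IsSeparated (ι ≫ f) := inferInstance
    constructor
  -- ampleness on the thickening
  let pS := S.isoSpec.hom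
  haveI : IsProper ((gz ≫ ι ≫ f) ≫ pS) := inferInstance
  haveI : IsNoetherianRing Γ(S, ⊤) := IsLocallyNoetherian.component_noetherian ⟨⊤, isAffineOpen_top S⟩
  haveI : IsProper (w ≫ g ≫ f) := by
    rw [← Category.assoc, hsq, Category.assoc]
    infer_instance
  have hιL : CohB1.IsAmple ((Scheme.Modules.pullback ι).obj L) := by
    refine (S0052.result Γ(S, ⊤) ((ι ≫ f) ≫ pS) ((gz ≫ ι ≫ f) ≫ pS) gz (by simp) _
      (PicClLib.isInvertible_pullback ι hL)).2 ?_
    haveI : CompactSpace (𝒥.comap g).subscheme := QuasiCompact.compactSpace_of_compactSpace (w ≫ g ≫ f)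
    refine AmpleX.isAmple_of_iso (cl_eq_iff.1 ?_).some
      (AmpleVan.isAmple_pullback_of_isEmbedding w w.isClosedEmbedding.isEmbedding h)
    show PicF.pullCl w (PicF.pullCl g (PicF.cl L)) = PicF.pullCl gz (PicF.pullCl ι (PicF.cl L))
    rw [PicClLib.pullCl_comp, PicClLib.pullCl_comp, hsq]
  obtain ⟨n₀, -, hn₀⟩ := S9710.result (g ≫ f) _ h
  obtain ⟨z₀, hz₀⟩ := (hsupp x).2 hxZ
  haveI := isSeparated_of_isAmple hιL
  obtain ⟨m, σ₀, hσ₀x, hσ₀O, -⟩ := exists_finite_nhd hιL (Set.finite_singleton z₀) (U := ι ⁻¹ᵁ O)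
    (Set.singleton_subset_iff.2 (show ι z₀ ∈ O by rw [hz₀]; exact hxO))
  obtain ⟨q, hq⟩ : ∃ q, q = (m + 1) * (n₀ + 1) := ⟨_, rfl⟩
  have hq0 : 0 < q := hq ▸ Nat.mul_pos m.succ_pos n₀.succ_pos
  obtain ⟨σ₁, hσ₁⟩ := exists_pow_section (PicClLib.isInvertible_pullback ι hL) (InvX.one σ₀) n₀.succ_pos
  obtain ⟨σ, hσ⟩ := exists_locus_cl (N := (Scheme.Modules.pullback ι).obj (CohB1.tensorPow L q))
    (show PicF.cl (CohB1.tensorPow ((Scheme.Modules.pullback ι).obj L) ((m + 1) * (n₀ + 1))) =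
        PicF.pullCl ι (PicF.cl (CohB1.tensorPow L q)) by
      rw [cl_tensorPow, cl_tensorPow, pullCl_pow, hq]; rfl) σ₁
  have hσl : locus σ = CohB1.genLocus _ σ₀ := by rw [hσ, hσ₁, AmpleX.genLocus_eq_locus]
  let eq' : ∀ l, Γ(CohB1.tensorPow L q, W l) := fun l => powElt (e l) q
  have heq' : ∀ l, InvX.IsFrame (eq' l) := fun l => isFrame_powElt (he l) q
  choose σc hσc using fun l => (InvX.isFrame_pullElt ι (heq' l)).exists_coord le_rfl
    (AModX.res _ (le_top : ι ⁻¹ᵁ W l ≤ ⊤) σ)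
  simp only [AModX.res_self] at hσc
  choose a ha using fun l => ι.app_surjective (W l) (hW l) (σc l)
  let M' := (Scheme.Modules.pullback g).obj (CohB1.tensorPow L q)
  obtain ⟨t₀, ht₀, -⟩ := AModX.existsUnique_glue (M := (Scheme.Modules.pullback w).obj M')
    (V := (⊤ : (𝒥.comap g).subscheme.Opens)) (fun l => w ⁻¹ᵁ (g ⁻¹ᵁ W l)) (fun _ => le_top)
    (fun z _ => hcov (g (w z)))
    (fun l => w.app _ (g.app (W l) (a l)) • InvX.pullElt w (InvX.pullElt g (eq' l))) (fun i j => by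
      let V := W i ⊓ W j
      have hi : V ≤ W i := inf_le_left
      have hj : V ≤ W j := inf_le_right
      obtain ⟨u, hu⟩ := (heq' i).exists_coord hi (AModX.res _ hj (eq' j))
      have key : ι.app V (AModX.resR hi (a i) - AModX.resR hj (a j) * u) = 0 := by
        rw [map_sub, map_mul, ← app_res' ι hi, ← app_res' ι hj, ha, ha, sub_eq_zero]
        refine (InvX.isFrame_pullElt ι (heq' i)).coord_unique (ι.preimage_mono hi) ?_
        have e1 := congrArg (AModX.res _ (ι.preimage_mono hi)) (hσc i)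
        have e2 := congrArg (AModX.res _ (ι.preimage_mono hj)) (hσc j)
        rw [AModX.res_smul, AModX.res_res] at e1 e2
        refine e1.symm.trans (e2.trans ?_)
        rw [InvX.res_pullElt ι hj, hu, InvX.pullElt_smul, ← InvX.res_pullElt ι hi, ← mul_smul]
      have key' := app_congr_zero hsq key
      rw [map_sub, map_sub, map_mul, map_mul, sub_eq_zero] at key'
      show AModX.res _ (w.preimage_mono (g.preimage_mono hi)) _ = AModX.res _ (w.preimage_mono (g.preimage_mono hj)) _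
      rw [AModX.res_smul, AModX.res_smul, InvX.res_pullElt w (g.preimage_mono hi),
        InvX.res_pullElt w (g.preimage_mono hj), InvX.res_pullElt g hi, InvX.res_pullElt g hj, hu,
        InvX.pullElt_smul, InvX.pullElt_smul, ← mul_smul, app_res' w (g.preimage_mono hi),
        app_res' w (g.preimage_mono hj), app_res' g hi, app_res' g hj, key'])
  have hptx : ∀ z, ι (gz z) = g (w z) := fun z => by
    rw [← Scheme.Hom.comp_apply, ← Scheme.Hom.comp_apply, hsq]
  have hσb : ∀ l y, y ∈ ι ⁻¹ᵁ W l → (y ∈ locus σ ↔ ι y ∈ X.basicOpen (a l)) := fun l y hy => by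
    have h1 := locus_inf σ (le_top : ι ⁻¹ᵁ W l ≤ ⊤) (InvX.isFrame_pullElt ι (heq' l)) (hσc l)
    rw [← ha, ← Scheme.preimage_basicOpen] at h1
    exact ⟨fun h' => (h1.le ⟨h', hy⟩ : _), fun h' => (h1.ge (show y ∈ ι ⁻¹ᵁ X.basicOpen (a l) from h')).1⟩
  let T : Set X' := g ⁻¹' (O : Set X)ᶜ
  have hVA : RelAmple.IsRelVeryAmplePn (g ≫ f) M' := by
    obtain ⟨r, i, hi, hif, ⟨θ⟩⟩ := hn₀ q (hq ▸ (Nat.le_succ n₀).trans (Nat.le_mul_of_pos_left _ m.succ_pos))
    refine ⟨r, i, hi, hif, ⟨(cl_eq_iff.1 ?_).some ≪≫ θ⟩⟩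
    show PicF.pullCl g (PicF.cl (CohB1.tensorPow L q)) = PicF.cl (CohB1.tensorPow ((Scheme.Modules.pullback g).obj L) q)
    rw [cl_tensorPow, cl_tensorPow, pullCl_pow]; rfl
  obtain ⟨n, hn, t, htT, hcoord⟩ := exists_extend_section (g ≫ f) hVA w
    (T := T) (O.isOpen.isClosed_compl.preimage g.continuous) t₀ (fun z hzT hz => by
      obtain ⟨l, hl⟩ := hcov (g (w z))
      have h1 := locus_inf t₀ (le_top : w ⁻¹ᵁ (g ⁻¹ᵁ W l) ≤ ⊤)
        (InvX.isFrame_pullElt w (InvX.isFrame_pullElt g (heq' l))) (ht₀ l)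
      have h2 := h1.le ⟨hz, hl⟩
      rw [← Scheme.preimage_basicOpen, ← Scheme.preimage_basicOpen] at h2
      have h3 : gz z ∈ locus σ := (hσb l (gz z) (show ι (gz z) ∈ W l by rw [hptx]; exact hl)).2
        (show ι (gz z) ∈ X.basicOpen (a l) by rw [hptx]; exact h2)
      rw [hσl] at h3
      have h4 : ι (gz z) ∈ O := hσ₀O h3
      rw [hptx] at h4
      exact hzT h4)
  have hfr := fun l => InvX.isFrame_pullElt g (heq' l)
  choose c hc using fun l => (isFrame_powElt (hfr l) n).exists_coord le_rfl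
    (AModX.res _ (le_top : g ⁻¹ᵁ W l ≤ ⊤) t)
  simp only [AModX.res_self] at hc
  have hmem : ∀ l, c l - g.app (W l) (a l ^ n) ∈ (zI (Z : Set X) (W l) ^ k).map (g.app (W l)).hom := fun l => by
    have h1 : w.app (g ⁻¹ᵁ W l) (c l - g.app (W l) (a l ^ n)) = 0 := by
      rw [map_sub, hcoord _ _ (hfr l) (c l) (w.app _ (g.app (W l) (a l))) (hc l) (ht₀ l), map_pow, map_pow, sub_self]
    let U : X.affineOpens := ⟨W l, hW l⟩
    let U' : X'.affineOpens := ⟨g ⁻¹ᵁ W l, (hW l).preimage g⟩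
    have h2 : c l - g.app (W l) (a l ^ n) ∈ (𝒥.comap g).ideal U' := by
      rw [← (𝒥.comap g).ker_subschemeι_app U']
      exact h1
    rw [ModPairLib.ideal_comap 𝒥 g U U' le_rfl, show g.appLE U.1 U'.1 le_rfl = g.app (W l) from
      (Scheme.Hom.app_eq_appLE g).symm] at h2
    refine Ideal.map_mono ?_ h2
    show (Scheme.IdealSheafData.vanishingIdeal Z ^ k).ideal U ≤ _
    rw [Scheme.IdealSheafData.ideal_pow, Pi.pow_apply]
    exact Ideal.pow_right_mono (vanishingIdeal_le_zI U) k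
  refine ⟨q, hq0, n, hn, t, O, hO, fun z hz => htT z hz, fun z hz => ?_, fun l => ⟨a l ^ n, c l, hc l, hmem l⟩⟩
  obtain ⟨l, hl⟩ := hcov x
  have hzW : z ∈ g ⁻¹ᵁ W l := show g z ∈ W l by rw [hz]; exact hl
  have h1 := locus_inf t (le_top : g ⁻¹ᵁ W l ≤ ⊤) (isFrame_powElt (hfr l) n) (hc l)
  have h2 : z ∈ X'.basicOpen (c l) := by
    rw [mem_basicOpen_iff_of_sub_mem (map_zI_le g hk (hmem l))
      (show z ∈ g ⁻¹' (Z : Set X) by rw [Set.mem_preimage, hz]; exact hxZ), ← Scheme.preimage_basicOpen]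
    show g z ∈ X.basicOpen (a l ^ n)
    rw [X.basicOpen_pow _ hn, hz, ← hz₀]
    exact (hσb l z₀ (show ι z₀ ∈ W l by rw [hz₀]; exact hl)).1 (by rw [hσl]; exact hσ₀x rfl)
  exact (h1.ge h2).1

end Groth.Agent.NormExt
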