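import Groth.Agent.NormExt.Local

/-!
# Norms of sections congruent to sections from downstairs along a closed subset
-/

universe u

open CategoryTheory AlgebraicGeometry TopologicalSpace

set_option backward.isDefEq.respectTransparency false
set_option backward.isDefEq.respectTransparency.types false

namespace Groth.Agent.NormExt

open Groth.Agent Groth.Agent.NormX Groth.Agent.AmpleX

variable {X Y : Scheme.{u}}

/-- Congruent functions are invertible at the same points of the closed subset. -/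
theorem mem_basicOpen_iff_of_sub_mem {Z : Set Y} {W : Y.Opens} {a b : Γ(Y, W)} (h : a - b ∈ zI Z W) {z : Y}
    (hz : z ∈ Z) : z ∈ Y.basicOpen a ↔ z ∈ Y.basicOpen b := by
  by_cases hzW : z ∈ W
  swap
  · exact ⟨fun h' => absurd (Y.basicOpen_le _ h') hzW, fun h' => absurd (Y.basicOpen_le _ h') hzW⟩
  have h1 := (QCoh.notMem_basicOpen_iff (a - b) z hzW).1 (h z hz)
  rw [map_sub] at h1
  rw [← not_iff_not, QCoh.notMem_basicOpen_iff a z hzW, QCoh.notMem_basicOpen_iff b z hzW]
  exact ⟨fun ha => by simpa using sub_mem ha h1, fun hb => by simpa using add_mem h1 hb⟩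

theorem app_mem_zI (π : X ⟶ Y) {Z : Set Y} {W : Y.Opens} {a : Γ(Y, W)} (h : a ∈ zI Z W) :
    π.app W a ∈ zI (π ⁻¹' Z) (π ⁻¹ᵁ W) := fun x hx hxa => by
  change x ∈ X.basicOpen (π.app W a) at hxa
  rw [← Scheme.preimage_basicOpen] at hxa
  exact h (π x) hx hxa

theorem of_app_mem_zI (π : X ⟶ Y) [Surjective π] {Z : Set Y} {W : Y.Opens} {a : Γ(Y, W)}
    (h : π.app W a ∈ zI (π ⁻¹' Z) (π ⁻¹ᵁ W)) : a ∈ zI Z W := fun z hz hza => by
  obtain ⟨x, rfl⟩ := π.surjective z
  refine h x hz ?_
  change x ∈ X.basicOpen (π.app W a)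
  rw [← Scheme.preimage_basicOpen]
  exact hza

theorem map_zI_le (π : X ⟶ Y) {Z : Set Y} {W : Y.Opens} {k : ℕ} (hk : 0 < k) :
    (zI Z W ^ k).map (π.app W).hom ≤ zI (π ⁻¹' Z) (π ⁻¹ᵁ W) :=
  Ideal.map_le_iff_le_comap.2 fun _ ha => app_mem_zI π (Ideal.pow_le_self (Nat.pos_iff_ne_zero.1 hk) ha)

theorem pow_sub_pow_mem {A : Type*} [CommRing A] {I : Ideal A} {a b : A} (h : a - b ∈ I) (n : ℕ) :
    a ^ n - b ^ n ∈ I := by
  rw [← Ideal.Quotient.eq] at h ⊢
  rw [map_pow, map_pow, h]

variable (π : X ⟶ Y) [IsFinite π] [IsReduced Y] [Surjective π] [IsNoetherian Y]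

/-- The norm of a section which is, near `Z`, congruent to sections from downstairs. -/
theorem exists_norm_section {Z : Set Y} (hZ : IsClosed Z) (hpt : ∀ y ∉ Z, GoodPt π y) {κ : Type u} [Finite κ]
    (W : κ → Y.Opens) (hW : ∀ i, IsAffineOpen (W i)) (hcov : ∀ y, ∃ i, y ∈ W i) :
    ∃ (D : ℕ) (_ : 0 < D) (k : ℕ) (_ : 0 < k), ∀ (M : Y.Modules) (e : ∀ i, Γ(M, W i))
      (_ : ∀ i, InvX.IsFrame (e i)) (N : ℕ)
      (t : Γ(CohB1.tensorPow ((Scheme.Modules.pullback π).obj M) N, ⊤)),
      (∀ i, ∃ (a : Γ(Y, W i)) (c : Γ(X, π ⁻¹ᵁ W i)),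
        AModX.res _ (le_top : π ⁻¹ᵁ W i ≤ ⊤) t = c • powElt (InvX.pullElt π (e i)) N ∧
          c - π.app (W i) a ∈ (zI Z (W i) ^ k).map (π.app (W i)).hom) →
      ∃ b : Γ(CohB1.tensorPow M (N * D), ⊤),
        (∀ y ∈ locus b, ∃ x : X, π x = y ∧ x ∈ locus t) ∧
          ∀ y : Y, (∀ x : X, π x = y → x ∈ locus t) → y ∈ locus b := by
  obtain ⟨D, hD, hdvd⟩ := exists_degree_noetherian π
  have hE := expo_pos D
  have hdense := hdense_of_noetherian π
  have hDeq : ∀ V : Y.Opens, GoodFree π V → (∃ y, y ∈ V) → rk π V * expo D (rk π V) = D :=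
    fun V hV hne => mul_expo hD (hdvd V hV hne)
  let U : Y.Opens := ⟨Zᶜ, hZ.isOpen_compl⟩
  choose k hk using fun i => exists_key π (Z := Z) hDeq hE hdense (hW i)
    (inf_le_left : W i ⊓ U ≤ W i) (fun y hy hyZ => ⟨hy, hyZ⟩) (fun y hy => hpt y hy.2)
  obtain ⟨k₀, hk₀⟩ := Finite.exists_le k
  refine ⟨D, hD, k₀ + 1, Nat.succ_pos _, fun M e he N t ht => ?_⟩
  choose a c htc hca using ht
  choose S hS hSa using fun i => hk i (a i) (c i)
    (Ideal.map_mono (Ideal.pow_le_pow_right ((hk₀ i).trans k₀.le_succ)) (hca i))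
  have hca' : ∀ i, c i - π.app (W i) (a i) ∈ zI (π ⁻¹' Z) (π ⁻¹ᵁ W i) := fun i =>
    map_zI_le π (Nat.succ_pos _) (hca i)
  let sf : ∀ i, Γ(CohB1.tensorPow M (N * D), W i) := fun i => S i • powElt (e i) (N * D)
  obtain ⟨b, hb, -⟩ := AModX.existsUnique_glue (M := CohB1.tensorPow M (N * D)) (V := (⊤ : Y.Opens)) W
    (fun _ => le_top) (fun p _ => hcov p) sf (fun i j => by
      let V := W i ⊓ W j
      have hi : V ≤ W i := inf_le_left
      have hj : V ≤ W j := inf_le_right
      obtain ⟨v, hv⟩ := (he i).exists_coord hi (AModX.res M hj (e j))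
      have key : AModX.resR (π.preimage_mono hi) (c i) = AModX.resR (π.preimage_mono hj) (c j) * π.app V (v ^ N) := by
        refine (isFrame_powElt (InvX.isFrame_pullElt π (he i)) N).coord_unique (π.preimage_mono hi) ?_
        have e1 := congrArg (AModX.res _ (π.preimage_mono hi)) (htc i)
        have e2 := congrArg (AModX.res _ (π.preimage_mono hj)) (htc j)
        rw [AModX.res_smul, AModX.res_res] at e1 e2
        refine e1.symm.trans (e2.trans ?_)
        rw [res_powElt, InvX.res_pullElt π hj, hv, InvX.pullElt_smul, powElt_smul, ← InvX.res_pullElt π hi,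
          ← res_powElt, ← mul_smul, map_pow]
      have hd : AModX.resR hi (S i) = AModX.resR hj (S j) * (v ^ N) ^ D := by
        rw [← sub_eq_zero]
        apply eq_zero_of_basicOpen_eq_bot
        refine Opens.ext (Set.eq_empty_of_forall_notMem fun y hy => ?_)
        have hyV : y ∈ V := Y.basicOpen_le _ hy
        by_cases hyZ : y ∈ Z
        · refine (?_ : _ ∈ zI Z V) y hyZ hy
          have h1 : AModX.resR hi (a i) - AModX.resR hj (a j) * v ^ N ∈ zI Z V := by
            refine of_app_mem_zI π ?_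
            rw [map_sub, map_mul, ← app_resR, ← app_resR]
            have q1 := resR_mem_zI (π.preimage_mono hi) (hca' i)
            have q2 := resR_mem_zI (π.preimage_mono hj) (hca' j)
            rw [map_sub] at q1 q2
            rw [show AModX.resR (π.preimage_mono hi) (π.app (W i) (a i)) -
                AModX.resR (π.preimage_mono hj) (π.app (W j) (a j)) * π.app V (v ^ N) =
              (AModX.resR (π.preimage_mono hj) (c j) - AModX.resR (π.preimage_mono hj) (π.app (W j) (a j))) *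
                π.app V (v ^ N) - (AModX.resR (π.preimage_mono hi) (c i) -
                  AModX.resR (π.preimage_mono hi) (π.app (W i) (a i))) from by rw [key]; ring]
            exact sub_mem (Ideal.mul_mem_right _ _ q2) q1
          have h2 := resR_mem_zI hi (hSa i)
          have h3 := resR_mem_zI hj (hSa j)
          rw [map_sub, map_pow] at h2 h3
          have h4 := pow_sub_pow_mem h1 D
          rw [mul_pow] at h4
          rw [show AModX.resR hi (S i) - AModX.resR hj (S j) * (v ^ N) ^ D =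
            (AModX.resR hi (S i) - AModX.resR hi (a i) ^ D) +
            (AModX.resR hi (a i) ^ D - AModX.resR hj (a j) ^ D * (v ^ N) ^ D) -
            (AModX.resR hj (S j) - AModX.resR hj (a j) ^ D) * (v ^ N) ^ D from by ring]
          exact sub_mem (add_mem h2 h4) (Ideal.mul_mem_right _ _ h3)
        · have h0 : AModX.resR (inf_le_left : V ⊓ U ≤ V)
              (AModX.resR hi (S i) - AModX.resR hj (S j) * (v ^ N) ^ D) = 0 := by
            rw [map_sub, map_mul, sub_eq_zero]
            have p1 := (hS i).res π (le_inf (inf_le_left.trans hi) inf_le_right : V ⊓ U ≤ W i ⊓ U)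
            have p2 := isExt_mul π ((hS j).res π (le_inf (inf_le_left.trans hj) inf_le_right : V ⊓ U ≤ W j ⊓ U))
              (isExt_app π hDeq (AModX.resR (inf_le_left : V ⊓ U ≤ V) (v ^ N)))
            rw [AModX.resR_resR, AModX.resR_resR] at p1 p2
            rw [← AModX.resR_resR (π.preimage_mono hi) (π.preimage_mono (inf_le_left : V ⊓ U ≤ V)), key, map_mul,
              app_resR π (inf_le_left : V ⊓ U ≤ V), AModX.resR_resR] at p1
            rw [AModX.resR_resR, AModX.resR_resR, map_pow _ (v ^ N)]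
            exact IsExt.unique π hdense p1 p2
          have h1 := congrArg Y.basicOpen h0
          rw [Scheme.basicOpen_zero, show AModX.resR (inf_le_left : V ⊓ U ≤ V) _ =
            Y.presheaf.map (homOfLE (inf_le_left : V ⊓ U ≤ V)).op _ from rfl, Scheme.basicOpen_res] at h1
          have h2 : y ∈ (⊥ : Y.Opens) := by rw [← h1]; exact ⟨⟨hyV, hyZ⟩, hy⟩
          exact h2
      show AModX.res _ hi (sf i) = AModX.res _ hj (sf j)
      simp only [sf]
      rw [AModX.res_smul, AModX.res_smul, res_powElt, res_powElt, hv, powElt_smul, ← mul_smul, hd, pow_mul])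
  have hlb : ∀ i, locus b ⊓ W i = Y.basicOpen (S i) := fun i =>
    locus_inf b le_top (isFrame_powElt (he i) _) (hb i)
  have hlt : ∀ i, locus t ⊓ π ⁻¹ᵁ W i = X.basicOpen (c i) := fun i =>
    locus_inf t le_top (isFrame_powElt (InvX.isFrame_pullElt π (he i)) N) (htc i)
  have hresU : ∀ i (y : Y), y ∉ Z → y ∈ W i →
      (y ∈ Y.basicOpen (AModX.resR (inf_le_left : W i ⊓ U ≤ W i) (S i)) ↔ y ∈ Y.basicOpen (S i)) := by
    intro i y hyZ hyW
    rw [show AModX.resR (inf_le_left : W i ⊓ U ≤ W i) (S i) =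
      Y.presheaf.map (homOfLE (inf_le_left : W i ⊓ U ≤ W i)).op (S i) from rfl, Scheme.basicOpen_res]
    exact ⟨fun h => h.2, fun h => ⟨⟨hyW, hyZ⟩, h⟩⟩
  have hZy : ∀ i (y : Y), y ∈ Z → ∀ x : X, π x = y → x ∈ π ⁻¹ᵁ W i →
      (y ∈ Y.basicOpen (S i) ↔ x ∈ X.basicOpen (c i)) := by
    intro i y hyZ x hx hxW
    rw [mem_basicOpen_iff_of_sub_mem (hSa i) hyZ, Y.basicOpen_pow _ hD,
      mem_basicOpen_iff_of_sub_mem (hca' i) (show x ∈ π ⁻¹' Z from by rw [Set.mem_preimage, hx]; exact hyZ),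
      ← Scheme.preimage_basicOpen]
    subst hx
    exact Iff.rfl
  refine ⟨b, fun y hy => ?_, fun y h => ?_⟩
  · obtain ⟨i, hi⟩ := hcov y
    have h1 : y ∈ Y.basicOpen (S i) := by rw [← hlb i]; exact ⟨hy, hi⟩
    have hx' : ∀ x : X, x ∈ X.basicOpen (c i) → x ∈ locus t := fun x hx => by
      rw [← hlt i] at hx
      exact hx.1
    by_cases hyZ : y ∈ Z
    · obtain ⟨x, hx⟩ := π.surjective y
      exact ⟨x, hx, hx' x ((hZy i y hyZ x hx (show π x ∈ W i by rw [hx]; exact hi)).1 h1)⟩
    · obtain ⟨V, hV, b', hyV, hb', hmem⟩ := exists_ext_at' π hE hdense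
        (AModX.resR (π.preimage_mono (inf_le_left : W i ⊓ U ≤ W i)) (c i)) ⟨hi, hyZ⟩ (hpt y hyZ)
      have e' := IsExt.unique π hdense ((hS i).res π hV) hb'
      obtain ⟨x, hx, hxc⟩ := hmem (by
        rw [← e', show AModX.resR hV _ = Y.presheaf.map (homOfLE hV).op
          (AModX.resR (inf_le_left : W i ⊓ U ≤ W i) (S i)) from rfl, Scheme.basicOpen_res]
        exact ⟨hyV, (hresU i y hyZ hi).2 h1⟩)
      refine ⟨x, hx, hx' x ?_⟩
      rw [show AModX.resR (π.preimage_mono (inf_le_left : W i ⊓ U ≤ W i)) (c i) =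
        X.presheaf.map (homOfLE (π.preimage_mono (inf_le_left : W i ⊓ U ≤ W i))).op (c i) from rfl,
        Scheme.basicOpen_res] at hxc
      exact hxc.2
  · obtain ⟨i, hi⟩ := hcov y
    suffices h1 : y ∈ Y.basicOpen (S i) by
      rw [← hlb i] at h1
      exact h1.1
    have hfib : ∀ x : X, π x = y → x ∈ X.basicOpen (c i) := fun x hx => by
      rw [← hlt i]
      exact ⟨h x hx, show π x ∈ W i by rw [hx]; exact hi⟩
    by_cases hyZ : y ∈ Z
    · obtain ⟨x, hx⟩ := π.surjective y
      exact (hZy i y hyZ x hx (show π x ∈ W i by rw [hx]; exact hi)).2 (hfib x hx)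
    · let V : Y.Opens := (W i ⊓ U) ⊓
        ⟨(π '' (X.basicOpen (c i) : Set X)ᶜ)ᶜ, (π.isClosedMap _ (X.basicOpen _).isOpen.isClosed_compl).isOpen_compl⟩
      have hyV : y ∈ V := ⟨⟨hi, hyZ⟩, fun ⟨x, hx, e'⟩ => hx (hfib x e')⟩
      have hVU : V ≤ W i ⊓ U := inf_le_left
      have hV : π ⁻¹ᵁ V ≤ X.basicOpen (c i) := fun x hx => by
        by_contra hc
        exact hx.2 ⟨x, hc, rfl⟩
      have p1 := (hS i).res π hVU
      rw [AModX.resR_resR, AModX.resR_resR] at p1
      have hu : IsUnit (AModX.resR (π.preimage_mono (hVU.trans inf_le_left)) (c i)) :=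
        AModX.isUnit_resR _ _ hV
      obtain ⟨u, hu⟩ := hu
      obtain ⟨b', hb'⟩ := exists_ext_on π hE hdense (W := V) (fun z hz => hpt z hz.1.2) (u⁻¹ : Γ(X, π ⁻¹ᵁ V)ˣ).1
      have p2 := isExt_mul π p1 hb'
      rw [← hu, Units.mul_inv] at p2
      have h1 := Y.basicOpen_of_isUnit (IsUnit.of_mul_eq_one _ (IsExt.unique π hdense p2 (isExt_one π)))
      rw [show AModX.resR (hVU.trans inf_le_left) (S i) =
        Y.presheaf.map (homOfLE (hVU.trans inf_le_left)).op (S i) from rfl, Scheme.basicOpen_res] at h1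
      have h2 : y ∈ V ⊓ Y.basicOpen (S i) := by rw [h1]; exact hyV
      exact h2.2

end Groth.Agent.NormExt
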