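import Groth.Agent.AmpleDev.Basic
import Groth.Agent.AmpleX.Sect
import Groth.Agent.AmpleVan.Criterion
import Groth.Agent.NormExt.Glue

/-!
# Sections on a proper scheme with prescribed restriction to a closed subscheme and vanishing on a closed subset
-/

universe u

open CategoryTheory CategoryTheory.Limits AlgebraicGeometry TopologicalSpace Opposite
open Groth.Agent.H23.PicMul

attribute [local instance] HasDerivedCategory.standard

set_option backward.isDefEq.respectTransparency false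
set_option backward.isDefEq.respectTransparency.types false

noncomputable section

namespace Groth.Agent.NormExt

open Groth.Agent Groth.Agent.AmpleX Groth.Agent.AmpleVan

variable {X W : Scheme.{u}}

local notation "O_" => Coh.structureModule X

theorem app_res' (j : W ⟶ X) {U V : X.Opens} (h : V ≤ U) (a : Γ(X, U)) :
    AModX.resR (j.preimage_mono h) (j.app U a) = j.app V (AModX.resR h a) :=
  (ConcreteCategory.congr_hom (j.naturality (homOfLE h).op) a).symm

/-- Functions vanishing at the points of `T` which restrict to zero on `W`. -/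
def cutIdeal (j : W ⟶ X) (T : Set X) : QCoh.SubMod (Coh.structureModule X) where
  mem U :=
    { carrier := {s | s ∈ (QCoh.vanIdeal T).mem U ∧ j.app U (QCoh.toFn s) = 0}
      add_mem' := fun {a b} ha hb => ⟨add_mem ha.1 hb.1, by
        rw [show QCoh.toFn (a + b) = QCoh.toFn a + QCoh.toFn b from rfl, map_add, ha.2, hb.2, add_zero]⟩
      zero_mem' := ⟨zero_mem _, map_zero _⟩
      smul_mem' := fun r a ha => ⟨Submodule.smul_mem _ r ha.1, by rw [QCoh.toFn_smul, map_mul, ha.2, mul_zero]⟩ }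
  map_mem {U V} i {s} hs := ⟨(QCoh.vanIdeal T).map_mem i hs.1, by
    show j.app V (AModX.resR i (QCoh.toFn s)) = 0
    rw [← app_res', hs.2, map_zero]⟩
  of_locally U s hs := ⟨(QCoh.vanIdeal T).of_locally U s fun x hx => by
      obtain ⟨V, i, hxV, h⟩ := hs x hx
      exact ⟨V, i, hxV, h.1⟩, by
    choose V hV hxV h using fun x : U => hs x.1 x.2
    refine W.sheaf.eq_of_locally_eq' (fun x : U => j ⁻¹ᵁ V x) (j ⁻¹ᵁ U) (fun x => homOfLE (j.preimage_mono (hV x)))
      (fun w hw => Opens.mem_iSup.2 ⟨⟨j w, hw⟩, hxV ⟨j w, hw⟩⟩) _ _ fun x => ?_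
    show AModX.resR (j.preimage_mono (hV x)) (j.app U (QCoh.toFn s)) = AModX.resR (j.preimage_mono (hV x)) 0
    rw [map_zero, app_res']
    exact (h x).2⟩

theorem isQCoh_cutIdeal (j : W ⟶ X) [IsAffineHom j] (T : Set X) : Coh.IsQCoh (cutIdeal j T).toModules := by
  refine QCoh.isQCoh_of_sections (fun U hU f s => ?_) (fun U hU f t ht => ?_)
  · obtain ⟨n, t, ht⟩ := QCoh.exists_pow_smul_eq_map (QCoh.isQCoh_structureModule (X := X)) hU f
      ((cutIdeal j T).ι.app _ s)
    have hs := (cutIdeal j T).ι_app_mem _ s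
    haveI := (hU.preimage j).isLocalization_basicOpen (j.app U f)
    have h0 : AModX.resR (W.basicOpen_le (j.app U f)) (j.app U (QCoh.toFn t)) = 0 := by
      have h1 : AModX.resR (j.preimage_mono (X.basicOpen_le f)) (j.app U (QCoh.toFn t)) = 0 := by
        rw [app_res' j (X.basicOpen_le f), show AModX.resR (X.basicOpen_le f) (QCoh.toFn t) =
          AModX.resR (X.basicOpen_le f) f ^ n * QCoh.toFn ((cutIdeal j T).ι.app _ s) from ht, map_mul, hs.2, mul_zero]
      rw [← AModX.resR_resR (j.preimage_mono (X.basicOpen_le f)) (Scheme.preimage_basicOpen j f).ge, h1, map_zero]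
    obtain ⟨⟨_, m, rfl⟩, hm⟩ := (IsLocalization.map_eq_zero_iff (Submonoid.powers (j.app U f))
      Γ(W, W.basicOpen (j.app U f)) (j.app U (QCoh.toFn t))).1 h0
    have hmem : f ^ (m + 1) • t ∈ (cutIdeal j T).mem U := by
      refine ⟨fun z hz hzb => ?_, ?_⟩
      · rw [QCoh.toFn_smul, Scheme.basicOpen_mul, X.basicOpen_pow _ m.succ_pos] at hzb
        have hzD : z ∈ X.basicOpen (QCoh.toFn ((Coh.structureModule X).presheaf.map
            (homOfLE (X.basicOpen_le f)).op t)) := by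
          rw [QCoh.toFn_map, Scheme.basicOpen_res]; exact ⟨hzb.1, hzb.2⟩
        rw [ht, QCoh.toFn_smul, Scheme.basicOpen_mul] at hzD
        exact hs.1 z hz hzD.2
      · rw [QCoh.toFn_smul, map_mul, map_pow, pow_succ', mul_assoc]
        exact (congrArg (j.app U f * ·) hm).trans (mul_zero _)
    obtain ⟨t', ht'⟩ := (cutIdeal j T).exists_app_eq hmem
    refine ⟨(m + 1) + n, t', (cutIdeal j T).ι_app_injective _ ?_⟩
    rw [QCoh.map_app_comm, ht', QCoh.map_smul', ht, Scheme.Modules.Hom.app_smul, ← mul_smul, map_pow,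
      ← pow_add]
  · obtain ⟨n, hn⟩ := QCoh.exists_pow_smul_eq_zero (QCoh.isQCoh_structureModule (X := X)) hU f
      ((cutIdeal j T).ι.app U t) (by rw [← QCoh.map_app_comm, ht, map_zero])
    refine ⟨n, (cutIdeal j T).ι_app_injective _ ?_⟩
    rw [Scheme.Modules.Hom.app_smul, hn, map_zero]

/-- A function which vanishes on `T ∩ j(W)` has a power which is, up to the kernel of restriction to `W`, a
function vanishing on `T`. -/
theorem exists_pow_mem_sup (j : W ⟶ X) [IsClosedImmersion j] {T : Set X} (hT : IsClosed T) {Q : X.Opens}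
    (hQ : IsAffineOpen Q) (f : Γ(X, Q)) (h : ∀ w, j w ∈ T → w ∉ W.basicOpen (j.app Q f)) :
    ∃ p : ℕ, f ^ p ∈ RingHom.ker (j.app Q).hom ⊔ zI T Q := by
  suffices f ∈ (RingHom.ker (j.app Q).hom ⊔ zI T Q).radical from this
  rw [Ideal.radical_eq_sInf, Submodule.mem_sInf]
  rintro q ⟨hle, hq⟩
  let x : X := hQ.fromSpec ⟨q, hq⟩
  have hxQ : x ∈ Q := hQ.opensRange_fromSpec.le ⟨_, rfl⟩
  have hprime : hQ.primeIdealOf ⟨x, hxQ⟩ = ⟨q, hq⟩ :=
    hQ.fromSpec.isOpenEmbedding.injective (hQ.fromSpec_primeIdealOf ⟨x, hxQ⟩)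
  have hmem : ∀ a : Γ(X, Q), a ∈ q ↔ x ∉ X.basicOpen a := fun a => by
    rw [QCoh.mem_basicOpen_iff_notMem hQ hxQ a, hprime, not_not]
  have hxT : x ∈ T := by
    by_contra hc
    let Tc : X.Opens := ⟨Tᶜ, hT.isOpen_compl⟩
    obtain ⟨a, ha, hxa⟩ := hQ.exists_basicOpen_le (V := Tc) ⟨x, hc⟩ hxQ
    exact (hmem a).1 (hle (Ideal.mem_sup_right (fun z hz hza => ha hza hz : a ∈ zI T Q))) hxa
  obtain ⟨w, hw⟩ : x ∈ Set.range j := by
    by_contra hc
    obtain ⟨a, ha, hxa⟩ := hQ.exists_basicOpen_le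
      (V := ⟨(Set.range j)ᶜ, j.isClosedEmbedding.isClosed_range.isOpen_compl⟩) ⟨x, hc⟩ hxQ
    have h0 : IsNilpotent (j.app Q a) := by
      rw [Scheme.isNilpotent_iff_basicOpen_eq_bot_of_isCompact (hQ.preimage j).isCompact,
        ← Scheme.preimage_basicOpen]
      exact Opens.ext (Set.eq_empty_of_forall_notMem fun w hw => ha hw ⟨w, rfl⟩)
    obtain ⟨m, hm⟩ := h0
    exact (hmem a).1 (hq.mem_of_pow_mem m (hle (Ideal.mem_sup_left
      (show j.app Q (a ^ m) = 0 by rw [map_pow, hm])))) hxa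
  refine (hmem f).2 fun hxf => h w (by rw [hw]; exact hxT) ?_
  rw [← Scheme.preimage_basicOpen]
  show j w ∈ X.basicOpen f
  rw [hw]
  exact hxf

theorem exists_tmul_frame {M N : X.Modules} (hM : Coh.IsQCoh M) (hN : Coh.IsQCoh N) {U : X.Opens}
    (hU : IsAffineOpen U) {e : Γ(N, U)} (he : InvX.IsFrame e) (z : Γ((tw N).obj M, U)) :
    ∃ m : Γ(M, U), InvX.tmul m e = z := by
  obtain ⟨w, rfl⟩ := (QCoh.bijective_tmLin hM hN hU).2 z
  induction w using TensorProduct.induction_on with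
  | zero => exact ⟨0, by rw [map_zero, tmul_zero_left]⟩
  | add a b ha hb =>
    obtain ⟨m, hm⟩ := ha
    obtain ⟨m', hm'⟩ := hb
    refine ⟨m + m', ?_⟩
    rw [tmul_add_left, hm, hm', map_add]
  | tmul a b =>
    obtain ⟨r, hr⟩ := he.exists_coord le_rfl b
    rw [AModX.res_self] at hr
    subst hr
    refine ⟨r • a, ?_⟩
    rw [InvX.tmul_smul_left, ← InvX.tmul_smul_right]
    rfl

variable (A : Type u) [CommRing A] [IsNoetherianRing A] [X.Over (Spec (CommRingCat.of A))]
  [IsProper (X ↘ Spec (CommRingCat.of A))]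

include A in
/-- On a proper scheme, a power of a section on a closed subscheme which vanishes at the points over a closed
subset `T` is the restriction of a section vanishing on `T`. -/
theorem exists_section_congruent {N : X.Modules} (hN : CohB1.IsAmple N) (j : W ⟶ X) [IsClosedImmersion j]
    {T : Set X} (hT : IsClosed T) {κ : Type u} [Finite κ] (Q : κ → X.Opens) (hQ : ∀ a, IsAffineOpen (Q a))
    (hcov : ∀ x, ∃ a, x ∈ Q a) (ε : ∀ a, Γ(N, Q a)) (hε : ∀ a, InvX.IsFrame (ε a))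
    (σ : ∀ a, Γ(W, j ⁻¹ᵁ Q a))
    (hσ : ∀ (a b : κ) (u : Γ(X, Q a ⊓ Q b)),
      AModX.res N (inf_le_right : Q a ⊓ Q b ≤ Q b) (ε b) = u • AModX.res N inf_le_left (ε a) →
      AModX.resR (j.preimage_mono (inf_le_left : Q a ⊓ Q b ≤ Q a)) (σ a) =
        AModX.resR (j.preimage_mono (inf_le_right : Q a ⊓ Q b ≤ Q b)) (σ b) * j.app _ u)
    (hσT : ∀ a w, j w ∈ T → w ∉ W.basicOpen (σ a)) :
    ∃ (n : ℕ) (_ : 0 < n) (t : Γ(CohB1.tensorPow N n, ⊤)) (c : ∀ a, Γ(X, Q a)),
      ∀ a, AModX.res _ (le_top : Q a ≤ ⊤) t = c a • powElt (ε a) n ∧ j.app (Q a) (c a) = σ a ^ n ∧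
        c a ∈ zI T (Q a) := by
  classical
  haveI : IsLocallyNoetherian X := LocallyOfFiniteType.isLocallyNoetherian (X ↘ Spec (CommRingCat.of A))
  choose f hf using fun a => j.app_surjective (Q a) (hQ a) (σ a)
  choose p hp using fun a => exists_pow_mem_sup j hT (hQ a) (f a) (fun w hw => by rw [hf]; exact hσT a w hw)
  obtain ⟨p₀, hp₀⟩ := Finite.exists_le p
  let K := (cutIdeal j T).toModules
  have hK : Coh.IsCoh K := QCoh.isCoh_of_mono (cutIdeal j T).ι
    (AmpleVan.isCoh_invertible InvX.isInvertible_structureModule) (isQCoh_cutIdeal j T)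
  obtain ⟨d₀, hd₀⟩ := AmpleDev.van_of_isAmple A hN hK
  let n := p₀ + d₀ + 1
  have hnp : ∀ a, f a ^ n ∈ RingHom.ker (j.app (Q a)).hom ⊔ zI T (Q a) := fun a => by
    obtain ⟨r, hr⟩ := Nat.exists_eq_add_of_le (show p a ≤ n from (hp₀ a).trans (by omega))
    rw [hr, pow_add]
    exact Ideal.mul_mem_right _ _ (hp a)
  choose α hα β hβ hαβ using fun a => Submodule.mem_sup.1 (hnp a)
  have hjβ : ∀ a, j.app (Q a) (β a) = σ a ^ n := fun a => by
    have h := congrArg (j.app (Q a)) (hαβ a)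
    rw [map_add, show j.app (Q a) (α a) = 0 from hα a, zero_add, map_pow, hf] at h
    exact h
  let Nn := CohB1.tensorPow N n
  haveI := isEquivalence_tw (InvX.isInvertible_tensorPow hN.1 n)
  let i₀ := QCoh.SubMod.homOfLE (N := cutIdeal j T) (N' := QCoh.vanIdeal T) (fun U s hs => hs.1)
  let S₀ : ShortComplex X.Modules := ShortComplex.mk i₀ (cokernel.π i₀) (cokernel.condition i₀)
  have hS₀ : S₀.ShortExact := { exact := ShortComplex.exact_of_g_is_cokernel _ (cokernelIsCokernel i₀) }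
  let S : ShortComplex X.Modules := S₀.map (tw Nn)
  have hS : S.ShortExact := hS₀.map_of_exact _
  choose e he using fun a => (QCoh.vanIdeal T).exists_app_eq (U := Q a) (s := β a) (hβ a)
  let q : ∀ a, Γ(S.X₃, Q a) := fun a => S.g.app (Q a) (InvX.tmul (e a) (powElt (ε a) n))
  obtain ⟨q₀, hq₀, -⟩ := AModX.existsUnique_glue (M := S.X₃) (V := (⊤ : X.Opens)) Q (fun _ => le_top)
    (fun x _ => hcov x) q (fun a b => by
      obtain ⟨u, hu⟩ := (hε a).exists_coord (inf_le_left : Q a ⊓ Q b ≤ Q a)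
        (AModX.res N (inf_le_right : Q a ⊓ Q b ≤ Q b) (ε b))
      let d := AModX.res (QCoh.vanIdeal T).toModules (inf_le_left : Q a ⊓ Q b ≤ Q a) (e a) -
        u ^ n • AModX.res (QCoh.vanIdeal T).toModules (inf_le_right : Q a ⊓ Q b ≤ Q b) (e b)
      have hd : (QCoh.vanIdeal T).ι.app _ d ∈ (cutIdeal j T).mem (Q a ⊓ Q b) := by
        refine ⟨(QCoh.vanIdeal T).ι_app_mem _ d, ?_⟩
        have hfn : QCoh.toFn ((QCoh.vanIdeal T).ι.app _ d) =
            AModX.resR (inf_le_left : Q a ⊓ Q b ≤ Q a) (β a) -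
              u ^ n * AModX.resR (inf_le_right : Q a ⊓ Q b ≤ Q b) (β b) := by
          simp only [d, map_sub, Scheme.Modules.Hom.app_smul, AModX.app_res, he]
          rfl
        rw [hfn, map_sub, map_mul, map_pow, ← app_res', ← app_res', hjβ, hjβ, map_pow, map_pow, hσ a b u hu, mul_pow,
          mul_comm, sub_self]
      obtain ⟨e', he'⟩ := (cutIdeal j T).exists_app_eq hd
      have hde : i₀.app _ e' = d := (QCoh.vanIdeal T).ι_app_injective _ (by
        refine Eq.trans ?_ he'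
        rfl)
      rw [← sub_eq_zero]
      show AModX.res S.X₃ _ (S.g.app _ _) - AModX.res S.X₃ _ (S.g.app _ _) = 0
      rw [← AModX.app_res, ← AModX.app_res, ← map_sub]
      refine Eq.trans (congrArg (S.g.app _) ?_) (QCoh.app_g_f (S := S) _
        (InvX.tmul e' (AModX.res Nn inf_le_left (powElt (ε a) n))))
      refine Eq.trans ?_ (map_tmul_left i₀ e' _).symm
      show AModX.res (CohB1.tensorMod (QCoh.vanIdeal T).toModules Nn) _ (InvX.tmul (e a) _) -
        AModX.res (CohB1.tensorMod (QCoh.vanIdeal T).toModules Nn) _ (InvX.tmul (e b) _) =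
        (InvX.tmul (i₀.app _ e') _ : Γ(CohB1.tensorMod (QCoh.vanIdeal T).toModules Nn, Q a ⊓ Q b))
      rw [hde, InvX.res_tmul, InvX.res_tmul, res_powElt, res_powElt, hu, powElt_smul, InvX.tmul_smul_right,
        ← InvX.tmul_smul_left]
      refine eq_sub_of_add_eq' ?_ |>.symm
      rw [← tmul_add_left]
      simp only [d, res_powElt, add_sub_cancel])
  obtain ⟨g, hg⟩ := QCoh.app_top_surjective_of_HH_one hS (hd₀ n (by omega)) q₀
  let G := ((tw Nn).map (QCoh.vanIdeal T).ι).app ⊤ g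
  let fr : ∀ a, Γ((tw Nn).obj O_, Q a) := fun a =>
    InvX.tmul (show Γ(O_, Q a) from (1 : Γ(X, Q a))) (powElt (ε a) n)
  have hfr : ∀ a, InvX.IsFrame (fr a) := fun a =>
    InvX.isFrame_tmul (InvX.isFrame_one (Q a)) (isFrame_powElt (hε a) n)
  have hscal : ∀ a (x : Γ(O_, Q a)), InvX.tmul x (powElt (ε a) n) = QCoh.toFn x • fr a := fun a x => by
    rw [← InvX.tmul_smul_left, AmpleVan.fn_smul_one]
  have hloc : ∀ a, ∃ c : Γ(X, Q a), AModX.res ((tw Nn).obj O_) (le_top : Q a ≤ ⊤) G = c • fr a ∧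
      j.app (Q a) c = σ a ^ n ∧ c ∈ zI T (Q a) := fun a => by
    have hd : S.g.app (Q a) (AModX.res S.X₂ (le_top : Q a ≤ ⊤) g -
        (show Γ(S.X₂, Q a) from InvX.tmul (e a) (powElt (ε a) n))) = 0 := by
      rw [map_sub, AModX.app_res, hg, sub_eq_zero]
      exact hq₀ a
    obtain ⟨k, hk⟩ := QCoh.exists_app_f_eq hS (Q a) _ hd
    obtain ⟨m, rfl⟩ := exists_tmul_frame hK.1
      (ProjUPX.isQCoh_of_isInvertible (InvX.isInvertible_tensorPow hN.1 n)) (hQ a) (isFrame_powElt (hε a) n) k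
    have hm : QCoh.toFn ((cutIdeal j T).ι.app (Q a) m) ∈ zI T (Q a) ∧
        j.app (Q a) (QCoh.toFn ((cutIdeal j T).ι.app (Q a) m)) = 0 := (cutIdeal j T).ι_app_mem _ m
    refine ⟨β a + QCoh.toFn ((cutIdeal j T).ι.app (Q a) m), ?_, ?_, add_mem (hβ a) hm.1⟩
    · let pw := powElt (ε a) n
      let Φ := ((tw Nn).map (QCoh.vanIdeal T).ι).app (Q a)
      have h1 : Φ (AModX.res S.X₂ (le_top : Q a ≤ ⊤) g) = AModX.res ((tw Nn).obj O_) (le_top : Q a ≤ ⊤) G :=
        AModX.app_res _ _ g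
      have h2 : Φ (show Γ(S.X₂, Q a) from InvX.tmul (e a) pw) = InvX.tmul (show Γ(O_, Q a) from β a) pw :=
        (map_tmul_left (QCoh.vanIdeal T).ι (e a) pw).trans (congrArg (InvX.tmul · pw) (he a))
      have h3 : Φ (S.f.app (Q a) (InvX.tmul m pw)) = InvX.tmul ((cutIdeal j T).ι.app (Q a) m) pw :=
        (congrArg Φ (map_tmul_left i₀ m pw)).trans (map_tmul_left (QCoh.vanIdeal T).ι (i₀.app (Q a) m) pw)
      have h4 : Φ (S.f.app (Q a) (InvX.tmul m pw)) = Φ (AModX.res S.X₂ (le_top : Q a ≤ ⊤) g) -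
          Φ (show Γ(S.X₂, Q a) from InvX.tmul (e a) pw) := (congrArg Φ hk).trans (map_sub Φ.hom _ _)
      rw [h1, h2, h3, hscal, hscal] at h4
      rw [add_smul, add_comm]
      exact (eq_sub_iff_add_eq.1 h4).symm
    · rw [map_add, hjβ, hm.2, add_zero]
  choose c hc hjc hcT using hloc
  obtain ⟨t, ht, -⟩ := AModX.existsUnique_glue (M := Nn) (V := (⊤ : X.Opens)) Q (fun _ => le_top)
    (fun x _ => hcov x) (fun a => c a • powElt (ε a) n) (fun a b => by
      obtain ⟨u, hu⟩ := (hε a).exists_coord (inf_le_left : Q a ⊓ Q b ≤ Q a)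
        (AModX.res N (inf_le_right : Q a ⊓ Q b ≤ Q b) (ε b))
      have hres : AModX.res _ (inf_le_right : Q a ⊓ Q b ≤ Q b) (fr b) =
          u ^ n • AModX.res _ (inf_le_left : Q a ⊓ Q b ≤ Q a) (fr a) := by
        show AModX.res (CohB1.tensorMod O_ Nn) _ (InvX.tmul _ _) =
          u ^ n • AModX.res (CohB1.tensorMod O_ Nn) _ (InvX.tmul _ _)
        rw [InvX.res_tmul, InvX.res_tmul, res_powElt, res_powElt, hu, powElt_smul, InvX.tmul_smul_right]
        congr 2
        exact (map_one (AModX.resR (inf_le_right : Q a ⊓ Q b ≤ Q b))).trans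
          (map_one (AModX.resR (inf_le_left : Q a ⊓ Q b ≤ Q a))).symm
      have hcc : AModX.resR (inf_le_left : Q a ⊓ Q b ≤ Q a) (c a) =
          AModX.resR (inf_le_right : Q a ⊓ Q b ≤ Q b) (c b) * u ^ n := by
        refine (hfr a).coord_unique (inf_le_left : Q a ⊓ Q b ≤ Q a) ?_
        rw [mul_smul, ← hres, ← AModX.res_smul, ← AModX.res_smul, ← hc, ← hc, AModX.res_res, AModX.res_res]
      rw [AModX.res_smul, AModX.res_smul, res_powElt, res_powElt, hu, powElt_smul, ← mul_smul, hcc])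
  exact ⟨n, Nat.succ_pos _, t, c, fun a => ⟨ht a, hjc a, hcT a⟩⟩

end Groth.Agent.NormExt
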