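import Groth.Agent.NormExt.Local
import Groth.Agent.AmpleVan.Vanish
import Groth.Agent.QCoh.LocFree
import Mathlib.RingTheory.Flat.Localization
import Mathlib.RingTheory.LocalRing.Module

/-!
# Points where the direct image is free, after base change
-/

universe u

open CategoryTheory CategoryTheory.Limits AlgebraicGeometry TopologicalSpace

attribute [local instance] HasDerivedCategory.standard

set_option backward.isDefEq.respectTransparency false
set_option backward.isDefEq.respectTransparency.types false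

namespace Groth.Agent.NormExt

open Groth.Agent Groth.Agent.NormX Groth.Agent.H23

variable {X Y X₀ Y₀ : Scheme.{u}}

theorem isFP_push [IsLocallyNoetherian Y] (π : X ⟶ Y) [IsFinite π] :
    CohB1.IsFP ((Coh.push π).obj (Coh.structureModule X)) := by
  haveI : IsLocallyNoetherian X := LocallyOfFiniteType.isLocallyNoetherian π
  exact QCoh.isCoh_iff_isFP.1
    (QCoh.isCoh_pushforward_finite π (AmpleVan.isCoh_invertible InvX.isInvertible_structureModule))

/-- A point with free stalk of the direct image has a neighbourhood with a basis. -/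
theorem exists_goodFree_of_free [IsLocallyNoetherian Y] (π : X ⟶ Y) [IsFinite π] (y : Y)
    [Module.Free (Y.presheaf.stalk y) (((Coh.push π).obj (Coh.structureModule X)).presheaf.stalk y)] :
    ∃ U, y ∈ U ∧ GoodFree π U := by
  obtain ⟨T, n, hyT, he⟩ := QCoh.exists_free_nhd_of_free_stalk (isFP_push π) y
  obtain ⟨e⟩ := he
  obtain ⟨s, hs⟩ := H23.Frame.exists_frame e
  exact ⟨T, hyT, n, T, s, le_rfl, fun W hW => hs W hW⟩

theorem goodPt_of_basis_pullback (π : X ⟶ Y) [IsFinite π] [IsLocallyNoetherian Y] [IsLocallyNoetherian Y₀]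
    (i : Y₀ ⟶ Y) {O : Y.Opens} (hO : ∀ W : Y.Opens, W ≤ O → IsAffineOpen W → IsAffineOpen (i ⁻¹ᵁ W))
    (p : X₀ ⟶ X) (π₀ : X₀ ⟶ Y₀) [IsFinite π₀] (sq : IsPullback p π₀ π i)
    {U : Y.Opens} (hU : GoodFree π U) {y : Y₀} (hy : i y ∈ U) (hyO : i y ∈ O) :
    ∃ U₀, y ∈ U₀ ∧ GoodFree π₀ U₀ := by
  obtain ⟨W, hW', hyW, hWUO⟩ : ∃ W : Y.Opens, IsAffineOpen W ∧ i y ∈ W ∧ W ≤ U ⊓ O := by
    obtain ⟨_, ⟨W, hW, rfl⟩, hyW, hWU⟩ :=
      Y.isBasis_affineOpens.exists_subset_of_mem_open (show i y ∈ U ⊓ O from ⟨hy, hyO⟩) (U ⊓ O).isOpen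
    exact ⟨W, hW, hyW, hWU⟩
  have hWU : W ≤ U := hWUO.trans inf_le_left
  obtain ⟨r, U', s, hUU', hs⟩ := hU
  haveI : Flat (π ∣_ W) := by
    haveI : IsAffine W.toScheme := hW'
    haveI : IsAffine (π ⁻¹ᵁ W).toScheme := hW'.preimage π
    rw [HasRingHomProperty.iff_of_isAffine (P := @Flat), morphismRestrict_appTop, CommRingCat.hom_comp]
    refine RingHom.Flat.comp ?_ (RingHom.Flat.of_bijective ((ConcreteCategory.isIso_iff_bijective _).1
      (inferInstanceAs (IsIso (X.presheaf.map _)))))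
    have e : W.ι ''ᵁ ⊤ ≤ U' := by rw [Scheme.Opens.ι_image_top]; exact fun z hz => hUU' (hWU hz)
    letI := CoverPush.alg π (W.ι ''ᵁ ⊤)
    haveI := Module.Free.of_basis (basisAt π hs e)
    exact (RingHom.flat_algebraMap_iff (R := Γ(Y, W.ι ''ᵁ ⊤)) (S := Γ(X, π ⁻¹ᵁ (W.ι ''ᵁ ⊤)))).2 inferInstance
  let W₀ : Y₀.Opens := i ⁻¹ᵁ W
  have hW₀ : IsAffineOpen W₀ := hO W (hWUO.trans inf_le_right) hW'
  haveI : Flat (π₀ ∣_ W₀) := by
    have big := (isPullback_morphismRestrict π₀ W₀).flip.paste_horiz sq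
    rw [show W₀.ι ≫ i = (i ∣_ W) ≫ W.ι from (morphismRestrict_ι i W).symm] at big
    exact MorphismProperty.of_isPullback (P := @Flat)
      (IsPullback.of_right' big (isPullback_morphismRestrict π W).flip) inferInstance
  haveI : IsAffine W₀.toScheme := hW₀
  haveI : IsAffine (π₀ ⁻¹ᵁ W₀).toScheme := hW₀.preimage π₀
  have hflat : ((π₀ ∣_ W₀).appTop).hom.Flat := (HasRingHomProperty.iff_of_isAffine (P := @Flat)).1 inferInstance
  rw [morphismRestrict_appTop, CommRingCat.hom_comp] at hflat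
  haveI : IsIso (X₀.presheaf.map (eqToHom (image_morphismRestrict_preimage π₀ W₀ ⊤)).op) := inferInstance
  have hflat' : (π₀.app W₀).hom.Flat := by
    have e : W₀.ι ''ᵁ ⊤ = W₀ := W₀.ι_image_top
    rw [← e]
    have := hflat.comp (RingHom.Flat.of_bijective (f := (inv (X₀.presheaf.map
      (eqToHom (image_morphismRestrict_preimage π₀ W₀ ⊤)).op)).hom)
      ((ConcreteCategory.isIso_iff_bijective _).1 inferInstance))
    rwa [← RingHom.comp_assoc, ← CommRingCat.hom_comp, IsIso.hom_inv_id, CommRingCat.hom_id, RingHom.id_comp] at this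
  let M := (Coh.push π₀).obj (Coh.structureModule X₀)
  have hM : CohB1.IsFP M := isFP_push π₀
  letI algB : Algebra Γ(Y₀, W₀) Γ(X₀, π₀ ⁻¹ᵁ W₀) := (π₀.app W₀).hom.toAlgebra
  haveI : Module.Flat Γ(Y₀, W₀) Γ(X₀, π₀ ⁻¹ᵁ W₀) := hflat'
  have e0 : Γ(M, W₀) ≃ₗ[Γ(Y₀, W₀)] Γ(X₀, π₀ ⁻¹ᵁ W₀) :=
    { toFun := fun x => x, invFun := fun x => x, left_inv := fun _ => rfl, right_inv := fun _ => rfl,
      map_add' := fun _ _ => rfl, map_smul' := fun _ _ => rfl }
  haveI : Module.Flat Γ(Y₀, W₀) Γ(M, W₀) := Module.Flat.of_linearEquiv e0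
  haveI := QCoh.finitePresentation_of_isFP hM hW₀
  have hyW₀ : y ∈ W₀ := hyW
  haveI : Module.Free (Y₀.presheaf.stalk y) (M.presheaf.stalk y) := by
    letI := QCoh.stalkAlg (X := Y₀) hyW₀
    letI := QCoh.stalkModule M hyW₀
    haveI := QCoh.isScalarTower_stalk M hyW₀
    haveI := QCoh.isLocalization_stalk' hW₀ hyW₀
    haveI := QCoh.isLocalizedModule_germLin (QCoh.isQCoh_of_isFP hM) hW₀ hyW₀
    let P := (hW₀.primeIdealOf ⟨y, hyW₀⟩).asIdeal.primeCompl
    haveI : Module.Finite (Y₀.presheaf.stalk y) (M.presheaf.stalk y) :=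
      Module.Finite.of_isLocalizedModule P (QCoh.germLin M hyW₀)
    haveI : Module.Flat (Y₀.presheaf.stalk y) (M.presheaf.stalk y) :=
      Module.Flat.of_isLocalizedModule _ P (QCoh.germLin M hyW₀)
    exact Module.free_of_flat_of_isLocalRing
  exact exists_goodFree_of_free π₀ y

end Groth.Agent.NormExt
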