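import Groth.Agent.NormX.GenericAmple
import Groth.Agent.NormExt.Alg
import Groth.Agent.QCoh.VanIdeal

/-!
# Extending norms across a closed subset

Let `π : X ⟶ Y` be finite surjective with `Y` reduced Noetherian, free or normal outside a closed subset `Z`.
On an affine open `W`, the norm of a function congruent to a function `a` downstairs modulo a high power of the
ideal of `Z` extends to a function on `W` which agrees with `a ^ D` on `Z`.
-/

universe u

open CategoryTheory AlgebraicGeometry TopologicalSpace Polynomial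

set_option backward.isDefEq.respectTransparency false
set_option backward.isDefEq.respectTransparency.types false

namespace Groth.Agent.NormExt

open Groth.Agent Groth.Agent.NormX Groth.Agent.H23

variable {X Y : Scheme.{u}}

/-- The ideal of functions on `W` vanishing on `Z`. -/
def zI (Z : Set Y) (W : Y.Opens) : Ideal Γ(Y, W) := (QCoh.vanIdeal Z).mem W

theorem mem_zI {Z : Set Y} {W : Y.Opens} {a : Γ(Y, W)} : a ∈ zI Z W ↔ ∀ z ∈ Z, z ∉ Y.basicOpen a := Iff.rfl

theorem resR_mem_zI {Z : Set Y} {W V : Y.Opens} (h : V ≤ W) {a : Γ(Y, W)} (ha : a ∈ zI Z W) :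
    AModX.resR h a ∈ zI Z V := (QCoh.vanIdeal Z).map_mem h ha

/-- The good or normal points. -/
def GoodPt (π : X ⟶ Y) (y : Y) : Prop := (∃ U : Y.Opens, y ∈ U ∧ GoodFree π U) ∨ NormalAt Y y

variable (π : X ⟶ Y) [IsFinite π] [IsReduced Y] [Surjective π] {E : ℕ → ℕ}

/-- The norm extends near a good or normal point. -/
theorem exists_ext_at' (hE : ∀ n, 0 < E n)
    (hdense : ∀ U : Y.Opens, (∃ y, y ∈ U) → ∃ V ≤ U, (∃ y, y ∈ V) ∧ GoodFree π V)
    {W₀ : Y.Opens} (t : Γ(X, π ⁻¹ᵁ W₀)) {y : Y} (hy : y ∈ W₀) (hpt : GoodPt π y) :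
    ∃ (W : Y.Opens) (h : W ≤ W₀) (b : Γ(Y, W)), y ∈ W ∧
      IsExt π E (AModX.resR (π.preimage_mono h) t) b ∧
      (y ∈ Y.basicOpen b → ∃ x : X, π x = y ∧ x ∈ X.basicOpen t) := by
  rcases hpt with ⟨U, hyU, hg⟩ | hn
  · obtain ⟨W, h, b, h1, h2, h3⟩ := exists_ext_free π hE hg t hy hyU
    obtain ⟨x, hx⟩ := π.surjective y
    exact ⟨W, h, b, h1, h2, fun hyb => ⟨x, hx, h3 x hx hyb⟩⟩
  · obtain ⟨W, h, b, h1, h2, h3, -⟩ := exists_ext_normal π hE hdense hn t hy
    exact ⟨W, h, b, h1, h2, h3⟩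

/-- The norm extends over an open of good or normal points. -/
theorem exists_ext_on (hE : ∀ n, 0 < E n)
    (hdense : ∀ U : Y.Opens, (∃ y, y ∈ U) → ∃ V ≤ U, (∃ y, y ∈ V) ∧ GoodFree π V)
    {W : Y.Opens} (hpt : ∀ y ∈ W, GoodPt π y) (t : Γ(X, π ⁻¹ᵁ W)) :
    ∃ b : Γ(Y, W), IsExt π E t b := by
  choose V hVW b hyV hb _ using fun y : W => exists_ext_at' π hE hdense t y.2 (hpt _ y.2)
  obtain ⟨B, hB, -⟩ := TopCat.Sheaf.existsUnique_gluing' Y.sheaf V W (fun y => homOfLE (hVW y))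
    (fun y hy => Opens.mem_iSup.2 ⟨⟨y, hy⟩, hyV _⟩) b (fun i j => by
      refine IsExt.unique π (E := E) hdense (W := V i ⊓ V j)
        (t := AModX.resR (π.preimage_mono (inf_le_left.trans (hVW i))) t) ?_ ?_
      · have := (hb i).res π (inf_le_left : V i ⊓ V j ≤ V i)
        rwa [AModX.resR_resR] at this
      · have := (hb j).res π (inf_le_right : V i ⊓ V j ≤ V j)
        rwa [AModX.resR_resR] at this)
  refine ⟨B, fun U hU hg => ?_⟩
  refine Y.sheaf.eq_of_locally_eq' (fun y : W => U ⊓ V y) U (fun y => homOfLE inf_le_left)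
    (fun y hy => Opens.mem_iSup.2 ⟨⟨y, hU hy⟩, hy, hyV _⟩) _ _ fun y => ?_
  show AModX.resR (inf_le_left : U ⊓ V y ≤ U) _ = AModX.resR inf_le_left _
  obtain ⟨r, U', s, hU', hs⟩ := hg
  rw [AModX.resR_resR, locF_res π ⟨r, U', s, hU', hs⟩, AModX.resR_resR,
    ← AModX.resR_resR (hVW y) (inf_le_right : U ⊓ V y ≤ V y) B,
    show AModX.resR (hVW y) B = b y from hB y,
    hb y (U ⊓ V y) inf_le_right ⟨r, U', s, inf_le_left.trans hU', hs⟩, AModX.resR_resR]

omit [IsFinite π] [IsReduced Y] [Surjective π] in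
/-- Norms multiply. -/
theorem isExt_mul {W : Y.Opens} {s t : Γ(X, π ⁻¹ᵁ W)} {b c : Γ(Y, W)} (hs : IsExt π E s b) (ht : IsExt π E t c) :
    IsExt π E (s * t) (b * c) := fun V h hg => by
  rw [map_mul, map_mul, map_mul, hs V h hg, ht V h hg]

omit [IsFinite π] [IsReduced Y] [Surjective π] in
theorem isExt_one {W : Y.Opens} : IsExt π E (1 : Γ(X, π ⁻¹ᵁ W)) (1 : Γ(Y, W)) := fun V h hg => by
  rw [map_one, map_one, map_one]

variable {D : ℕ} (hD : ∀ W : Y.Opens, GoodFree π W → (∃ y, y ∈ W) → rk π W * E (rk π W) = D)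

omit [IsFinite π] [IsReduced Y] [Surjective π] in
include hD in
/-- The norm of a function from downstairs. -/
theorem isExt_app {W : Y.Opens} (g : Γ(Y, W)) : IsExt π E (π.app W g) (g ^ D) := fun V hV hg => by
  rw [app_resR, map_pow]
  letI := CoverPush.alg π V
  show AModX.resR hV g ^ D = Algebra.norm Γ(Y, V) (algebraMap Γ(Y, V) Γ(X, π ⁻¹ᵁ V) (AModX.resR hV g)) ^ E (rk π V)
  rcases subsingleton_or V with hsub | ⟨y, hy⟩
  · exact Subsingleton.elim _ _
  obtain ⟨r, U', s, hVU, hs⟩ := hg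
  haveI := nontrivial_of_mem (W := V) hy
  rw [Algebra.norm_algebraMap_of_basis (basisAt π hs hVU), ← pow_mul, Fintype.card_fin,
    ← hD V ⟨r, U', s, hVU, hs⟩ ⟨y, hy⟩, rk_eq π hs hVU]

omit [IsFinite π] [IsReduced Y] [Surjective π] in
/-- The norm of a linear combination is a polynomial in the coefficients. -/
theorem exists_norm_poly {V : Y.Opens} (hg : GoodFree π V) {n : ℕ} (b : Fin (n + 1) → Γ(X, π ⁻¹ᵁ V)) :
    ∃ P : MvPolynomial (Fin (n + 1)) Γ(Y, V), ∀ x : Fin (n + 1) → Γ(Y, V),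
      locF π E V (∑ i, π.app V (x i) * b i) = MvPolynomial.eval x P := by
  classical
  letI := CoverPush.alg π V
  obtain ⟨r, U', s, hVU, hs⟩ := hg
  let bas := basisAt π hs hVU
  refine ⟨(∑ i, (MvPolynomial.X i : MvPolynomial (Fin (n + 1)) Γ(Y, V)) •
      (Algebra.leftMulMatrix bas (b i)).map (MvPolynomial.C (σ := Fin (n + 1)) (R := Γ(Y, V)))).det ^ E (rk π V),
    fun x => ?_⟩
  show Algebra.norm Γ(Y, V) _ ^ E (rk π V) = _
  rw [map_pow, RingHom.map_det, Algebra.norm_eq_matrix_det bas]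
  congr 2
  simp only [show ∀ i, π.app V (x i) * b i = x i • b i from fun i => rfl, map_sum, map_smul]
  ext p q
  simp [Matrix.sum_apply, RingHom.mapMatrix_apply]

variable [IsNoetherian Y] {Z : Set Y}

include hD in
/-- Norms of functions congruent to functions from downstairs modulo a high power of the ideal of `Z` extend. -/
theorem exists_key (hE : ∀ n, 0 < E n)
    (hdense : ∀ U : Y.Opens, (∃ y, y ∈ U) → ∃ V ≤ U, (∃ y, y ∈ V) ∧ GoodFree π V)
    {W U' : Y.Opens} (hW : IsAffineOpen W) (hU'W : U' ≤ W) (hU'Z : ∀ y ∈ W, y ∉ Z → y ∈ U')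
    (hpt : ∀ y ∈ U', GoodPt π y) :
    ∃ k : ℕ, ∀ (a : Γ(Y, W)) (c : Γ(X, π ⁻¹ᵁ W)), c - π.app W a ∈ (zI Z W ^ k).map (π.app W).hom →
      ∃ S : Γ(Y, W), IsExt π E (AModX.resR (π.preimage_mono hU'W) c) (AModX.resR hU'W S) ∧
        S - a ^ D ∈ zI Z W := by
  classical
  let A := Γ(Y, W)
  let B := Γ(X, π ⁻¹ᵁ W)
  letI algB : Algebra A B := CoverPush.alg π W
  haveI : Module.Finite A B := π.finite_app W hW
  haveI : IsNoetherianRing A := IsLocallyNoetherian.component_noetherian ⟨W, hW⟩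
  obtain ⟨n, bb, hbb⟩ := Module.Finite.exists_fin (R := A) (M := B)
  let b : Fin (n + 1) → B := Fin.cons 1 bb
  let 𝒢 : Set Y.Opens := {V | V ≤ U' ∧ GoodFree π V}
  obtain ⟨G, hG⟩ := (NoetherianSpace.isCompact (⋃ V : 𝒢, (V.1 : Set Y))).elim_finite_subcover
    (fun V : 𝒢 => (V.1 : Set Y)) (fun V => V.1.isOpen) subset_rfl
  have hVU : ∀ V : G, V.1.1 ≤ U' := fun V => V.1.2.1
  have hVg : ∀ V : G, GoodFree π V.1.1 := fun V => V.1.2.2
  letI algR : ∀ V : G, Algebra A Γ(Y, V.1.1) := fun V => (AModX.resR ((hVU V).trans hU'W)).toAlgebra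
  letI algU : Algebra A Γ(Y, U') := (AModX.resR hU'W).toAlgebra
  let ι : Γ(Y, U') →ₗ[A] ∀ V : G, Γ(Y, V.1.1) :=
    { toFun := fun z V => AModX.resR (hVU V) z
      map_add' := fun z z' => funext fun V => map_add _ _ _
      map_smul' := fun r z => funext fun V => by
        show AModX.resR (hVU V) (AModX.resR hU'W r * z) = AModX.resR ((hVU V).trans hU'W) r * AModX.resR (hVU V) z
        rw [map_mul, AModX.resR_resR] }
  have hι : Function.Injective ι := fun z z' h => eq_of_dense z z' fun O hO hne => by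
    obtain ⟨V₀, hV₀, ⟨y, hy⟩, hg⟩ := hdense O hne
    obtain ⟨V, hV, hyV⟩ := Set.mem_iUnion₂.1 (hG (Set.mem_iUnion.2 ⟨⟨V₀, hV₀.trans hO, hg⟩, hy⟩))
    exact ⟨V.1, hVU ⟨V, hV⟩, ⟨y, hyV, hV₀ hy⟩, congrFun h ⟨V, hV⟩⟩
  choose P hP using fun V : G => exists_norm_poly π (E := E) (hVg V)
    (fun i => AModX.resR (π.preimage_mono ((hVU V).trans hU'W)) (b i))
  let S₀ : Finset (∀ V : G, Γ(Y, V.1.1)) :=
    Finset.univ.biUnion fun V : G => (P V).support.image fun d => Pi.single V ((P V).coeff d)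
  let ρ : A →ₗ[A] Γ(Y, U') := Algebra.linearMap A _
  obtain ⟨k, hk⟩ := exists_pow_smul_le (zI Z W) ι hι (N := Submodule.span A (S₀ : Set _)) ⟨S₀, rfl⟩
    (Submodule.map ρ (zI Z W)) (fun a ha g => by
      have hle : Y.basicOpen a ≤ U' := fun y hy => hU'Z y (Y.basicOpen_le _ hy) fun hz => ha y hz hy
      haveI := hW.isLocalization_basicOpen a
      obtain ⟨⟨a', ⟨_, p, rfl⟩⟩, hp⟩ := IsLocalization.surj (Submonoid.powers a) (AModX.resR hle g)
      refine ⟨p + 1, a * a', Ideal.mul_mem_right _ _ ha, ?_⟩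
      show AModX.resR hU'W (a * a') = AModX.resR hU'W (a ^ (p + 1)) * g
      rw [map_mul, map_pow]
      refine eq_of_dense _ _ fun O hO hne => ?_
      by_cases hmeet : ∃ y, y ∈ O ∧ y ∈ Y.basicOpen a
      · obtain ⟨y, hyO, hya⟩ := hmeet
        refine ⟨Y.basicOpen a, hle, ⟨y, hya, hyO⟩, ?_⟩
        rw [map_mul, map_mul, map_pow, AModX.resR_resR, AModX.resR_resR, pow_succ', mul_assoc]
        congr 1
        rw [mul_comm] at hp
        have hp' : AModX.resR (Y.basicOpen_le a) (a ^ p) * AModX.resR hle g = AModX.resR (Y.basicOpen_le a) a' := hp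
        rw [map_pow] at hp'
        exact hp'.symm
      · refine ⟨O, hO, ⟨hne.choose, hne.choose_spec, hne.choose_spec⟩, ?_⟩
        have h0 : AModX.resR (hO.trans hU'W) a = 0 := by
          apply eq_zero_of_basicOpen_eq_bot
          rw [show AModX.resR (hO.trans hU'W) a = Y.presheaf.map (homOfLE (hO.trans hU'W)).op a from rfl,
            Scheme.basicOpen_res]
          exact Opens.ext (Set.eq_empty_of_forall_notMem fun y hy => hmeet ⟨y, hy.1, hy.2⟩)
        rw [map_mul, map_mul, map_pow, AModX.resR_resR, h0, zero_mul, pow_succ', zero_mul, zero_mul])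
  refine ⟨k, fun a c hc => ?_⟩
  obtain ⟨x, hx, hxc⟩ : ∃ x : Fin n → A, (∀ i, x i ∈ zI Z W ^ k) ∧ ∑ i, x i • bb i = c - π.app W a := by
    have h1 : c - π.app W a ∈ (zI Z W ^ k) • (⊤ : Submodule A B) := by
      rw [Ideal.smul_top_eq_map]; exact hc
    rw [← hbb, Submodule.mem_ideal_smul_span_iff_exists_sum] at h1
    obtain ⟨x, hx, hxc⟩ := h1
    refine ⟨x, hx, ?_⟩
    rwa [Finsupp.sum_fintype _ _ (fun i => zero_smul A (bb i))] at hxc
  obtain ⟨y, hy⟩ := exists_ext_on π hE hdense hpt (AModX.resR (π.preimage_mono hU'W) c)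
  let v : Fin (n + 1) → A := Fin.cons a x
  let w : Fin (n + 1) → A := Fin.cons a 0
  have hvw : ∀ i, v i - w i ∈ zI Z W ^ k := fun i => by
    induction i using Fin.cases with
    | zero => simp [v, w]
    | succ i => simpa [v, w] using hx i
  have hev : ∀ (V : G) (u : Fin (n + 1) → A) (d : B), ∑ i, u i • b i = d →
      MvPolynomial.eval (fun i => algebraMap A Γ(Y, V.1.1) (u i)) (P V) =
        locF π E V.1.1 (AModX.resR (π.preimage_mono ((hVU V).trans hU'W)) d) := by
    intro V u d hd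
    subst hd
    rw [← hP V]
    refine congrArg (locF π E V.1.1) (Eq.trans ?_ (map_sum _ _ _).symm)
    refine Finset.sum_congr rfl fun i _ => ?_
    show π.app _ (AModX.resR _ (u i)) * _ = AModX.resR _ (π.app W (u i) * b i)
    rw [map_mul, app_resR]
  have hsv : ∑ i, v i • b i = c := by
    rw [Fin.sum_univ_succ]
    simp only [v, b, Fin.cons_zero, Fin.cons_succ]
    rw [hxc, show a • (1 : B) = π.app W a * 1 from rfl, mul_one, add_sub_cancel]
  have hsw : ∑ i, w i • b i = π.app W a := by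
    rw [Fin.sum_univ_succ]
    simp only [w, b, Fin.cons_zero, Fin.cons_succ, Pi.zero_apply, zero_smul, Finset.sum_const_zero, add_zero]
    exact mul_one _
  have hmem : ι (y - AModX.resR hU'W (a ^ D)) ∈ (zI Z W ^ k) • Submodule.span A (S₀ : Set _) := by
    rw [← Finset.univ_sum_single (ι (y - AModX.resR hU'W (a ^ D)))]
    refine Submodule.sum_mem _ fun V _ => ?_
    let L := LinearMap.single A (fun V : G => Γ(Y, V.1.1)) V
    have h1 := eval_sub_eval_mem (P V) hvw
    have h2 : (Submodule.span A ((fun d => (P V).coeff d) '' ((P V).support : Set _))).map L ≤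
        Submodule.span A (S₀ : Set _) := by
      rw [Submodule.map_span]
      refine Submodule.span_mono ?_
      rintro _ ⟨_, ⟨d, hd, rfl⟩, rfl⟩
      exact Finset.mem_coe.2 (Finset.mem_biUnion.2 ⟨V, Finset.mem_univ _, Finset.mem_image_of_mem _ hd⟩)
    have h3 := Submodule.mem_map_of_mem (f := L) h1
    rw [Submodule.map_smul''] at h3
    refine Submodule.smul_mono le_rfl h2 ?_
    convert h3 using 1
    show Pi.single V _ = Pi.single V _
    congr 1
    rw [hev V v c hsv, hev V w _ hsw]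
    show AModX.resR (hVU V) (y - AModX.resR hU'W (a ^ D)) = _
    rw [map_sub, hy _ (hVU V) (hVg V), AModX.resR_resR, AModX.resR_resR,
      (isExt_app π hD a) _ ((hVU V).trans hU'W) (hVg V)]
  obtain ⟨e, he, hey⟩ := hk _ hmem
  refine ⟨a ^ D + e, ?_, by rw [add_sub_cancel_left]; exact he⟩
  rw [map_add, show AModX.resR hU'W e = y - AModX.resR hU'W (a ^ D) from hey, add_sub_cancel]
  exact hy

end Groth.Agent.NormExt
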