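import Groth.Agent.NormExt.Core
import Groth.Agent.NormExt.FreePt
import Groth.Agent.S2153
import Groth.Prelude.Def_ClSub2

/-!
# Relative ampleness descends along finite surjective morphisms
-/

universe u

open CategoryTheory CategoryTheory.Limits AlgebraicGeometry TopologicalSpace
open Groth.Agent.H23.PicMul

attribute [local instance] HasDerivedCategory.standard

set_option backward.isDefEq.respectTransparency false
set_option backward.isDefEq.respectTransparency.types false

noncomputable section

namespace Groth.Agent.NormExt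

open Groth.Agent Groth.Agent.NormX Groth.Agent.AmpleX

variable {X X' S : Scheme.{u}}

/-- Relative ampleness descends along finite surjective morphisms which are normal or free outside a closed
subset proper over the base. -/
theorem isRelAmple_of_pullback [IsLocallyNoetherian S] (f : X ⟶ S) [LocallyOfFiniteType f] [QuasiCompact f]
    (g : X' ⟶ X) [IsFinite g] [Surjective g] {L : X.Modules} (hL : PicF.IsInvertible L)
    {Z : Set X} (hZ : ClSub.IsProperOver f Z)
    (hreg : ∀ x : X, x ∉ Z →
      (IsDomain (X.presheaf.stalk x) ∧ IsIntegrallyClosed (X.presheaf.stalk x)) ∨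
        Module.Free (X.presheaf.stalk x) (((Coh.push g).obj (Coh.structureModule X')).presheaf.stalk x))
    (h : RelAmple.IsRelAmple (g ≫ f) ((Scheme.Modules.pullback g).obj L)) : RelAmple.IsRelAmple f L := by
  haveI : IsLocallyNoetherian X := LocallyOfFiniteType.isLocallyNoetherian f
  obtain ⟨hZc, hZp⟩ := hZ
  haveI := hZp
  refine ⟨inferInstance, fun V => ?_⟩
  haveI : IsAffine V.1.toScheme := V.2
  haveI : CompactSpace V.1.toScheme := isCompact_iff_compactSpace.mp V.2.isCompact
  haveI hLN : IsLocallyNoetherian V.1.toScheme := inferInstance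
  haveI : IsNoetherian V.1.toScheme := { __ := hLN, __ := ‹CompactSpace V.1.toScheme› }
  let U : X.Opens := f ⁻¹ᵁ V.1
  haveI : CompactSpace U.toScheme := isCompact_iff_compactSpace.mp (f.isCompact_preimage V.2.isCompact)
  obtain ⟨R, r, hr, hRred, hrange⟩ := H23.RedSub.exists_reduced_subscheme U.toScheme
    (isClosed_univ (X := U.toScheme)).isLocallyClosed
  haveI := hr
  haveI := hRred
  haveI : IsClosedImmersion r := IsClosedImmersion.of_isPreimmersion r (by rw [hrange]; exact isClosed_univ)
  haveI : Surjective r := ⟨fun z => hrange.ge (Set.mem_univ z)⟩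
  have hhom : IsHomeomorph r.base :=
    (isHomeomorph_iff_isEmbedding_surjective).2 ⟨r.isEmbedding, r.surjective⟩
  refine AmpleX.isAmple_of_iso (cl_eq_iff.1 ?_).some
    ((S2153.result r hhom ((Scheme.Modules.pullback U.ι).obj L) (PicClLib.isInvertible_pullback U.ι hL)).1 ?_)
  · exact (AmpleX.cl_restrict U.ι L).symm
  -- the base change
  let j : R ⟶ X := r ≫ U.ι
  let fR : R ⟶ V.1.toScheme := r ≫ (f ∣_ V.1)
  let p : pullback g j ⟶ X' := pullback.fst g j
  let gR : pullback g j ⟶ R := pullback.snd g j
  haveI : CompactSpace R := QuasiCompact.compactSpace_of_compactSpace r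
  haveI : IsLocallyNoetherian R := LocallyOfFiniteType.isLocallyNoetherian fR
  haveI : IsFinite gR := MorphismProperty.pullback_snd g j inferInstance
  haveI : Surjective gR := MorphismProperty.pullback_snd g j inferInstance
  let ZR : Closeds R := Closeds.preimage ⟨Z, hZc⟩ j.continuous
  let ιR := (Scheme.IdealSheafData.vanishingIdeal ZR).subschemeι
  let ιZ := (Scheme.IdealSheafData.vanishingIdeal ⟨Z, hZc⟩).subschemeι
  haveI hZR : IsProper (ιR ≫ fR) := by
    haveI := H23.RedSub.isReduced_vanishingIdeal ZR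
    obtain ⟨b, hb⟩ := H23.RedSub.exists_lift_closed (ιR ≫ r) (ιZ ∣_ U) (by
      rintro _ ⟨z, rfl⟩
      have hz : ιR z ∈ Set.range ιR := ⟨z, rfl⟩
      rw [H23.RedSub.range_vanishingIdeal] at hz
      obtain ⟨w, hw⟩ : j (ιR z) ∈ Set.range ιZ := by rw [H23.RedSub.range_vanishingIdeal]; exact hz
      have hwU : ιZ w ∈ U := by rw [hw]; exact (r (ιR z)).2
      refine ⟨⟨w, hwU⟩, U.ι.isEmbedding.injective ?_⟩
      rw [← Scheme.Hom.comp_apply (ιZ ∣_ U) U.ι, morphismRestrict_ι]
      exact hw)
    haveI : IsClosedImmersion (b ≫ (ιZ ∣_ U)) := by rw [hb]; infer_instance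
    haveI : IsClosedImmersion b := IsClosedImmersion.of_comp b (ιZ ∣_ U)
    haveI : IsProper ((ιZ ≫ f) ∣_ V.1) := inferInstance
    have e : ιR ≫ fR = b ≫ ((ιZ ≫ f) ∣_ V.1) := by
      show ιR ≫ r ≫ (f ∣_ V.1) = _
      rw [morphismRestrict_comp, ← Category.assoc, ← hb, Category.assoc]
    rw [e]
    infer_instance
  have hptR : ∀ y : R, y ∉ (ZR : Set R) → GoodPt gR y := by
    intro y hy
    rcases hreg (j y) hy with ⟨hd, hn⟩ | hfree
    · let e₁ := (asIso (U.ι.stalkMap (r y))).commRingCatIsoToRingEquiv
      haveI : IsDomain (U.toScheme.presheaf.stalk (r y)) := e₁.symm.toMulEquiv.isDomain_iff.2 hd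
      obtain ⟨W, hyW, hW⟩ := H23.FinCondSch.exists_integral_nhd (r y)
      haveI : IsClosedImmersion (r ∣_ W) :=
        MorphismProperty.of_isPullback (P := @IsClosedImmersion) (isPullback_morphismRestrict r W).flip inferInstance
      haveI : Surjective (r ∣_ W) :=
        MorphismProperty.of_isPullback (P := @Surjective) (isPullback_morphismRestrict r W).flip inferInstance
      haveI : IsIso (r ∣_ W) := isIso_of_isClosedImmersion_of_surjective (r ∣_ W)
      haveI : IsIso (r.stalkMap y) :=
        (MorphismProperty.arrow_mk_iso_iff (MorphismProperty.isomorphisms CommRingCat)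
          (morphismRestrictStalkMap r W ⟨y, hyW⟩)).1 (inferInstanceAs (IsIso ((r ∣_ W).stalkMap ⟨y, hyW⟩)))
      let e := e₁.trans (asIso (r.stalkMap y)).commRingCatIsoToRingEquiv
      haveI : IsDomain (R.presheaf.stalk y) := e.symm.toMulEquiv.isDomain_iff.2 hd
      haveI : IsIntegrallyClosed (X.presheaf.stalk (U.ι (r y))) := hn
      exact Or.inr ⟨IsIntegrallyClosed.of_equiv e, H23.FinCondSch.exists_integral_nhd y⟩
    · haveI := hfree
      obtain ⟨T, hyT, hT⟩ := exists_goodFree_of_free g (j y)
      refine Or.inl (goodPt_of_basis_pullback g j (O := U) (fun W hW hWa => ?_) p gR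
        (IsPullback.of_hasPullback g j) hT hyT (r y).2)
      show IsAffineOpen (r ⁻¹ᵁ (U.ι ⁻¹ᵁ W))
      refine IsAffineOpen.preimage ?_ r
      exact hWa.preimage_of_isOpenImmersion U.ι (by rw [Scheme.Opens.opensRange_ι]; exact hW)
  have hR : CohB1.IsAmple ((Scheme.Modules.pullback gR).obj ((Scheme.Modules.pullback j).obj L)) := by
    let U' : X'.Opens := (g ≫ f) ⁻¹ᵁ V.1
    have hp : Set.range p ⊆ Set.range U'.ι := by
      rintro _ ⟨z, rfl⟩
      rw [Scheme.Opens.range_ι]
      show f (g (p z)) ∈ V.1
      rw [← Scheme.Hom.comp_apply p g, show p ≫ g = gR ≫ j from pullback.condition]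
      exact (r (gR z)).2
    let k := IsOpenImmersion.lift U'.ι p hp
    have hk : k ≫ U'.ι = p := IsOpenImmersion.lift_fac _ _ _
    haveI : IsImmersion p := MorphismProperty.pullback_fst g j inferInstance
    haveI : IsImmersion (k ≫ U'.ι) := by rw [hk]; infer_instance
    haveI : IsImmersion k := IsImmersion.of_comp k U'.ι
    haveI : CompactSpace (pullback g j : Scheme.{u}) := QuasiCompact.compactSpace_of_compactSpace gR
    refine AmpleX.isAmple_of_iso (cl_eq_iff.1 ?_).some
      (AmpleVan.isAmple_pullback_of_isEmbedding k k.isEmbedding (h.2 V))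
    show PicF.pullCl k (PicF.cl (((Scheme.Modules.pullback g).obj L).restrict U'.ι)) =
      PicF.pullCl gR (PicF.pullCl j (PicF.cl L))
    rw [AmpleX.cl_restrict]
    show PicF.pullCl k (PicF.pullCl U'.ι (PicF.pullCl g (PicF.cl L))) = _
    rw [PicClLib.pullCl_comp, PicClLib.pullCl_comp, PicClLib.pullCl_comp, hk,
      show p ≫ g = gR ≫ j from pullback.condition]
  refine AmpleX.isAmple_of_iso (cl_eq_iff.1 ?_).some
    (isAmple_core fR gR (PicClLib.isInvertible_pullback j hL) ZR hptR hR)
  show PicF.pullCl j (PicF.cl L) = PicF.pullCl r (PicF.pullCl U.ι (PicF.cl L))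
  rw [PicClLib.pullCl_comp]

end Groth.Agent.NormExt
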