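import Groth.Agent.NormExt.Cut
import Groth.Agent.NilAmple.Extend
import Groth.Agent.AmpleX.EmbedOverApps
import Groth.Agent.TwistFlat.Base

/-!
# Extending sections from a proper closed subscheme, vanishing on a given closed subset
-/

universe u

open CategoryTheory CategoryTheory.Limits AlgebraicGeometry TopologicalSpace
open Groth.Agent.H23.PicMul

attribute [local instance] HasDerivedCategory.standard

set_option backward.isDefEq.respectTransparency false
set_option backward.isDefEq.respectTransparency.types false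

noncomputable section

namespace Groth.Agent.NormExt

open Groth.Agent Groth.Agent.AmpleX

variable {X W Y : Scheme.{u}}

/-- A power of a section on a closed subscheme proper over the base, vanishing on a closed subset `T`, extends
to a section vanishing on `T`. -/
theorem exists_extend_section [IsAffine Y] [IsNoetherian Y] (f : X ⟶ Y) {M : X.Modules}
    (hM : RelAmple.IsRelVeryAmplePn f M) (w : W ⟶ X) [IsClosedImmersion w] [IsProper (w ≫ f)]
    {T : Set X} (hT : IsClosed T) (t₀ : Γ((Scheme.Modules.pullback w).obj M, ⊤))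
    (ht₀ : ∀ z : W, w z ∈ T → z ∉ locus t₀) :
    ∃ (n : ℕ) (_ : 0 < n) (t : Γ(CohB1.tensorPow M n, ⊤)),
      (∀ x ∈ T, x ∉ locus t) ∧
      ∀ (V : X.Opens) (e : Γ(M, V)) (_ : InvX.IsFrame e) (c : Γ(X, V)) (c₀ : Γ(W, w ⁻¹ᵁ V)),
        AModX.res _ (le_top : V ≤ ⊤) t = c • powElt e n →
        AModX.res _ (le_top : w ⁻¹ᵁ V ≤ ⊤) t₀ = c₀ • InvX.pullElt w e → w.app V c = c₀ ^ n := by
  classical
  obtain ⟨r, i, hi, hif, ⟨θ⟩⟩ := hM
  haveI := hi
  let P := CohB1.ProjSpaceOver r Y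
  let p : P ⟶ Y := CohB1.ProjSpaceOver.toBase r Y
  let N := Twist.twistOver r Y 1
  have hNa : CohB1.IsAmple N :=
    (AmpleX.isRelAmple_iff_isAmple p N).1 (TwistFlat.isRelAmple_twistOver r (Y := Y))
  haveI : CompactSpace P := hNa.2.1
  letI : P.Over (Spec Γ(Y, ⊤)) := ⟨p ≫ Y.isoSpec.hom⟩
  haveI : IsProper (P ↘ Spec Γ(Y, ⊤)) := inferInstanceAs (IsProper (p ≫ Y.isoSpec.hom))
  haveI : IsNoetherianRing Γ(Y, ⊤) := IsLocallyNoetherian.component_noetherian ⟨⊤, isAffineOpen_top Y⟩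
  haveI : IsProper ((w ≫ i) ≫ p) := by
    rw [Category.assoc, show i ≫ p = f from hif]
    infer_instance
  haveI : IsProper (w ≫ i) := IsProper.of_comp (w ≫ i) p
  let j : W ⟶ P := w ≫ i
  haveI : IsClosedImmersion j := IsClosedImmersion.of_isPreimmersion (w ≫ i) (w ≫ i).isClosedMap.isClosed_range
  let T' : Set P := closure (i '' T)
  have hT' : ∀ x : X, i x ∈ T' → x ∈ T := fun x hx => by
    have := (i.isEmbedding.closure_eq_preimage_closure_image T).symm.subset (show x ∈ i ⁻¹' T' from hx)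
    rwa [hT.closure_eq] at this
  obtain ⟨s, hs, hsQ, hcovs⟩ := NilAmple.exists_affine_frame_cover hNa.1 (W := (⊤ : P.Opens))
    (by simpa using isCompact_univ)
  haveI := hs.to_subtype
  let Q : s → P.Opens := fun a => a.1
  have hQ : ∀ a : s, IsAffineOpen (Q a) := fun a => (hsQ a.1 a.2).2.1
  choose ε hε using fun a : s => (hsQ a.1 a.2).2.2
  have hcov : ∀ z, ∃ a : s, z ∈ Q a := fun z =>
    let ⟨V, hV, hz⟩ := hcovs z trivial
    ⟨⟨V, hV⟩, hz⟩
  let e' : ∀ a, Γ(M, i ⁻¹ᵁ Q a) := fun a => θ.inv.app _ (InvX.pullElt i (ε a))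
  have he' : ∀ a, InvX.IsFrame (e' a) := fun a => (InvX.isFrame_pullElt i (hε a)).map_iso θ.symm
  have hu' : ∀ (a b : s) (u : Γ(P, Q a ⊓ Q b)),
      AModX.res N (inf_le_right : Q a ⊓ Q b ≤ Q b) (ε b) = u • AModX.res N inf_le_left (ε a) →
      AModX.res M (i.preimage_mono (inf_le_right : Q a ⊓ Q b ≤ Q b)) (e' b) =
        i.app _ u • AModX.res M (i.preimage_mono (inf_le_left : Q a ⊓ Q b ≤ Q a)) (e' a) := fun a b u hu => by
    simp only [e']
    rw [← AModX.app_res, ← AModX.app_res, InvX.res_pullElt i inf_le_right, hu, InvX.pullElt_smul,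
      Scheme.Modules.Hom.app_smul, InvX.res_pullElt i inf_le_left]
  choose σ hσ using fun a => (InvX.isFrame_pullElt w (he' a)).exists_coord le_rfl
    (AModX.res _ (le_top : w ⁻¹ᵁ (i ⁻¹ᵁ Q a) ≤ ⊤) t₀)
  simp only [AModX.res_self] at hσ
  obtain ⟨n, hn, tP, c, hc⟩ := exists_section_congruent Γ(Y, ⊤) hNa j (T := T') isClosed_closure Q hQ hcov ε hε
    (fun a => σ a) (fun a b u hu => by
      refine (InvX.isFrame_pullElt w (he' a)).coord_unique
        (w.preimage_mono (i.preimage_mono (inf_le_left : Q a ⊓ Q b ≤ Q a))) ?_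
      have e1 := congrArg (AModX.res _ (w.preimage_mono (i.preimage_mono (inf_le_left : Q a ⊓ Q b ≤ Q a)))) (hσ a)
      have e2 := congrArg (AModX.res _ (w.preimage_mono (i.preimage_mono (inf_le_right : Q a ⊓ Q b ≤ Q b)))) (hσ b)
      rw [AModX.res_smul, AModX.res_res] at e1 e2
      refine e1.symm.trans (e2.trans ?_)
      rw [InvX.res_pullElt w (i.preimage_mono (inf_le_right : Q a ⊓ Q b ≤ Q b)), hu' a b u hu, InvX.pullElt_smul,
        ← InvX.res_pullElt w (i.preimage_mono (inf_le_left : Q a ⊓ Q b ≤ Q a)), ← mul_smul]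
      rfl)
    (fun a z hz hzσ => by
      refine ht₀ z (hT' _ hz) ?_
      have h := locus_inf t₀ (le_top : w ⁻¹ᵁ (i ⁻¹ᵁ Q a) ≤ ⊤) (InvX.isFrame_pullElt w (he' a)) (hσ a)
      rw [← h] at hzσ
      exact hzσ.1)
  obtain ⟨t, ht, -⟩ := AModX.existsUnique_glue (M := CohB1.tensorPow M n) (V := (⊤ : X.Opens))
    (fun a => i ⁻¹ᵁ Q a) (fun _ => le_top) (fun x _ => hcov (i x))
    (fun a => i.app (Q a) (c a) • powElt (e' a) n) (fun a b => by
      obtain ⟨u, hu⟩ := (hε a).exists_coord (inf_le_left : Q a ⊓ Q b ≤ Q a)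
        (AModX.res N (inf_le_right : Q a ⊓ Q b ≤ Q b) (ε b))
      have hcc : AModX.resR (inf_le_left : Q a ⊓ Q b ≤ Q a) (c a) =
          AModX.resR (inf_le_right : Q a ⊓ Q b ≤ Q b) (c b) * u ^ n := by
        refine (isFrame_powElt (hε a) n).coord_unique (inf_le_left : Q a ⊓ Q b ≤ Q a) ?_
        have e1 := congrArg (AModX.res _ (inf_le_left : Q a ⊓ Q b ≤ Q a)) (hc a).1
        have e2 := congrArg (AModX.res _ (inf_le_right : Q a ⊓ Q b ≤ Q b)) (hc b).1
        rw [AModX.res_smul, AModX.res_res] at e1 e2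
        refine e1.symm.trans (e2.trans ?_)
        rw [res_powElt, hu, powElt_smul, ← res_powElt, ← mul_smul]
      show AModX.res _ (i.preimage_mono (inf_le_left : Q a ⊓ Q b ≤ Q a)) _ =
        AModX.res _ (i.preimage_mono (inf_le_right : Q a ⊓ Q b ≤ Q b)) _
      rw [AModX.res_smul, AModX.res_smul, res_powElt, res_powElt, hu' a b u hu, powElt_smul, ← mul_smul,
        app_res' i (inf_le_left : Q a ⊓ Q b ≤ Q a), app_res' i (inf_le_right : Q a ⊓ Q b ≤ Q b), hcc, map_mul,
        map_pow])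
  refine ⟨n, hn, t, fun x hxT hx => ?_, fun V e he cV c₀ hcV hc₀ => ?_⟩
  · obtain ⟨a, ha⟩ := hcov (i x)
    have h := locus_inf t (le_top : i ⁻¹ᵁ Q a ≤ ⊤) (isFrame_powElt (he' a) n) (ht a)
    have hx' : x ∈ X.basicOpen (i.app (Q a) (c a)) := by rw [← h]; exact ⟨hx, ha⟩
    rw [← Scheme.preimage_basicOpen] at hx'
    exact (hc a).2.2 (i x) (subset_closure ⟨x, hxT, rfl⟩) hx'
  · refine W.sheaf.eq_of_locally_eq' (fun a : s => w ⁻¹ᵁ (V ⊓ i ⁻¹ᵁ Q a)) (w ⁻¹ᵁ V)
      (fun a => homOfLE (w.preimage_mono inf_le_left))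
      (fun z hz => Opens.mem_iSup.2 ⟨(hcov (i (w z))).choose, hz, (hcov (i (w z))).choose_spec⟩) _ _ fun a => ?_
    let V' := V ⊓ i ⁻¹ᵁ Q a
    have hV : V' ≤ V := inf_le_left
    have hQa : V' ≤ i ⁻¹ᵁ Q a := inf_le_right
    show AModX.resR (w.preimage_mono hV) (w.app V cV) = AModX.resR (w.preimage_mono hV) (c₀ ^ n)
    obtain ⟨v, hv⟩ := he.exists_coord hV (AModX.res M hQa (e' a))
    have h1 : AModX.resR hV cV = AModX.resR hQa (i.app (Q a) (c a)) * v ^ n := by
      refine (isFrame_powElt he n).coord_unique hV ?_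
      have e1 := congrArg (AModX.res _ hV) hcV
      have e2 := congrArg (AModX.res _ hQa) (ht a)
      rw [AModX.res_smul, AModX.res_res] at e1 e2
      refine e1.symm.trans (e2.trans ?_)
      rw [res_powElt, hv, powElt_smul, ← res_powElt, ← mul_smul]
    have h2 : AModX.resR (w.preimage_mono hV) c₀ = AModX.resR (w.preimage_mono hQa) (σ a) * w.app V' v := by
      refine (InvX.isFrame_pullElt w he).coord_unique (w.preimage_mono hV) ?_
      have e1 := congrArg (AModX.res _ (w.preimage_mono hV)) hc₀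
      have e2 := congrArg (AModX.res _ (w.preimage_mono hQa)) (hσ a)
      rw [AModX.res_smul, AModX.res_res] at e1 e2
      refine e1.symm.trans (e2.trans ?_)
      rw [InvX.res_pullElt w hQa, hv, InvX.pullElt_smul, ← InvX.res_pullElt w hV, ← mul_smul]
    rw [app_res' w hV, h1, map_mul, ← app_res' w hQa, map_pow, map_pow, h2, mul_pow,
      show w.app (i ⁻¹ᵁ Q a) (i.app (Q a) (c a)) = σ a ^ n from (hc a).2.1, map_pow]

end Groth.Agent.NormExt
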